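import Cfsg.Agent.Lib.OrthPlusMinDegree.Propagate
import Cfsg.Agent.EqLemmas
/-
Small representations: one line for each singular vector at every level, nothing for the others.
* Small; q_facts; thin (M k v), full (singular ones occur), E_bottom, opp_fixed
* flip: the frame with e, f exchanged at the last pair; finrank_E_step; bound_of_fix: dim E n < n
-/
set_option autoImplicit false
set_option linter.unusedSectionVars false

namespace Cfsg.Agent.OrthPlusMinDegree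

open Cfsg Module
open Cfsg.Agent.Orth
open Cfsg.Agent.SUMinDegree (rep_injective)
open QuadraticMap (polar)

variable {ι : Type} [Fintype ι] [DecidableEq ι] {F : Type*} [Field F] [Fintype F]
variable {Q : QuadraticForm F (ι → F)} {n : ℕ} (Φ : Frame Q n)
variable {V : Type} [AddCommGroup V] [Module ℂ V] [FiniteDimensional ℂ V] (ρ : Representation ℂ (OG Q) V)

namespace Frame

/-- The hypothesis to be refuted: the degree is below `(q^n-1)(q^{n-1}+q)/(q^2-1)`. -/
structure Small : Prop where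
  hn : 4 ≤ n
  hq : 3 < Fintype.card F
  moves : Φ.E ρ 1 ≠ ⊤
  small : (Fintype.card F ^ 2 - 1) * finrank ℂ V < (Fintype.card F ^ n - 1) * (Fintype.card F ^ (n - 1) + Fintype.card F)

/-- `e` and `f` exchanged at the last pair. -/
def flip : Frame Q n where
  e i := if i + 1 = n then Φ.f i else Φ.e i
  f i := if i + 1 = n then Φ.e i else Φ.f i
  qe i hi := by split_ifs <;> simp [Φ.qe i hi, Φ.qf i hi]
  qf i hi := by split_ifs <;> simp [Φ.qe i hi, Φ.qf i hi]
  pef i hi := by split_ifs <;> simp [Φ.pef i hi, Φ.pfe hi]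
  pne i j hi hj h := by
    split_ifs <;> first | omega | exact Φ.pnfe hi hj h | exact Φ.pnef i j hi hj h | exact Φ.pne i j hi hj h
  pnf i j hi hj h := by
    split_ifs <;> first | omega | exact Φ.pnef i j hi hj h | exact Φ.pnfe hi hj h | exact Φ.pnf i j hi hj h
  pnef i j hi hj h := by
    split_ifs <;> first | omega | exact Φ.pff hi hj | exact Φ.pee hi hj | exact Φ.pnef i j hi hj h
  nd := Φ.nd
  hn := Φ.hn
  n_pos := Φ.n_pos
  hcore x hx := Φ.hcore x fun i hi => by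
    obtain ⟨h1, h2⟩ := hx i hi
    split_ifs at h1 h2
    · exact ⟨h2, h1⟩
    · exact ⟨h1, h2⟩

theorem flip_e {i : ℕ} (hi : i + 1 < n) : (Φ.flip).e i = Φ.e i := if_neg (by omega)

theorem flip_f {i : ℕ} (hi : i + 1 < n) : (Φ.flip).f i = Φ.f i := if_neg (by omega)

theorem flip_last_e {i : ℕ} (hi : i + 1 = n) : (Φ.flip).e i = Φ.f i := if_pos hi

theorem flip_last_f {i : ℕ} (hi : i + 1 = n) : (Φ.flip).f i = Φ.e i := if_pos hi

theorem flip_em (u w : ι → F) : (Φ.flip).em u w = Φ.em u w := Subtype.ext rfl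

theorem flip_mem_W {k : ℕ} (hk : k + 1 < n) {x : ι → F} : x ∈ (Φ.flip).W k ↔ x ∈ Φ.W k :=
  ⟨fun h j hj => by have := h j hj; rwa [Φ.flip_e (by omega), Φ.flip_f (by omega)] at this,
   fun h j hj => by rw [Φ.flip_e (by omega), Φ.flip_f (by omega)]; exact h j hj⟩

theorem flip_E {k : ℕ} (hk : k < n) : (Φ.flip).E ρ k = Φ.E ρ k := by
  ext v
  simp only [mem_E, flip_em]
  refine forall_congr' fun j => forall_congr' fun hj => forall_congr' fun x => ?_
  rw [Φ.flip_e (i := j) (by omega)]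
  refine imp_congr_left (forall_congr' fun i => forall_congr' fun hi => ?_)
  rw [Φ.flip_e (i := i) (by omega)]

theorem flip_M {k : ℕ} (hk : k + 1 < n) (v : ι → F) : (Φ.flip).M ρ k v = Φ.M ρ k v := by
  ext u
  simp only [mem_M, flip_em, Φ.flip_E ρ (show k < n by omega), Φ.flip_e hk, Φ.flip_mem_W hk]

variable {Φ ρ}

theorem Small.flip (h : Φ.Small ρ) : (Φ.flip).Small ρ :=
  ⟨h.hn, h.hq, by rw [Φ.flip_E ρ (by have := h.hn; omega)]; exact h.moves, h.small⟩

theorem Small.dim_lt (h : Φ.Small ρ) {c : ℕ} (hc : c ≤ finrank ℂ V) :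
    (Fintype.card F ^ 2 - 1) * c < (Fintype.card F ^ n - 1) * (Fintype.card F ^ (n - 1) + Fintype.card F) :=
  lt_of_le_of_lt (Nat.mul_le_mul_left _ hc) h.small

theorem singCount_succ (q : ℕ) (hq : 1 ≤ q) (j : ℕ) :
    singCount q (j + 1) + q ^ j = q ^ (2 * j + 1) + q ^ (j + 1) := by
  obtain ⟨r, rfl⟩ : ∃ r, q = r + 1 := ⟨q - 1, by omega⟩
  induction j with
  | zero => simp [singCount]; ring
  | succ j ih =>
    rw [singCount, pow_succ (r + 1) j, Nat.add_sub_cancel]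
    calc r * (r + 1) ^ (2 * (j + 1)) + (r + 1) * singCount (r + 1) (j + 1) + (r + 1) ^ j * (r + 1)
        = r * (r + 1) ^ (2 * (j + 1)) + (r + 1) * (singCount (r + 1) (j + 1) + (r + 1) ^ j) := by ring
      _ = _ := by rw [ih]; ring

theorem Small.finrank_nonsingular (h : Φ.Small ρ) {v : ι → F} (hv : v ∈ Φ.W 0) (hQ : Q v ≠ 0) :
    Φ.M ρ 0 v = ⊥ := by
  classical
  by_contra hne
  have hn := h.hn
  have hq := h.hq
  have := Fintype.ofFinite (Φ.W 0)
  have := Fintype.ofFinite (Φ.W 1)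
  obtain ⟨l, hl0, hl⟩ := exists_scalar h.hq
  -- two norms in the class of `v`
  let g : Bool × Fˣ × Φ.W 1 → Φ.W 0 := fun p =>
    Φ.wEquiv (k := 0) (by omega)
      ((p.2.1 : F), ((if p.1 then Q v else Q v / (l * l)) - Q p.2.2.1) / p.2.1, p.2.2)
  have hgQ : ∀ p, Q (g p).1 = if p.1 then Q v else Q v / (l * l) := fun p => by
    show Q ((p.2.1 : F) • Φ.e 1 + _ • Φ.f 1 + p.2.2.1) = _
    rw [(Φ.hpair (i := 1) (by omega)).Q_comb (mem_perp_of_W p.2.2.2 le_rfl), mul_div_cancel₀ _ p.2.1.ne_zero,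
      sub_add_cancel]
  have hg : Function.Injective g := by
    intro p p' hpp
    have h1 := congrArg (fun x : Φ.W 0 => Q x.1) hpp
    simp only [hgQ] at h1
    have h2 := (Φ.wEquiv (k := 0) (by omega)).injective hpp
    simp only [Prod.mk.injEq] at h2
    obtain ⟨b, a, w⟩ := p
    obtain ⟨b', a', w'⟩ := p'
    have hb : b = b' := by
      have aux : Q v ≠ Q v / (l * l) := fun e =>
        hl ((mul_eq_left₀ hQ).1 ((eq_div_iff (mul_ne_zero hl0 hl0)).1 e))
      cases b <;> cases b' <;> simp_all [aux.symm]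
    dsimp only at h2
    simp [hb, Units.ext h2.1, h2.2.2]
  have hpos : ∀ p, 1 ≤ finrank ℂ (Φ.M ρ 0 (g p).1) := fun p => by
    obtain ⟨c, hc, hcv⟩ : ∃ c : F, c ≠ 0 ∧ Q v = c * c * Q (g p).1 := by
      rw [hgQ]
      rcases p.1 with _ | _
      · exact ⟨l, hl0, by rw [if_neg Bool.false_ne_true, mul_div_cancel₀ _ (mul_ne_zero hl0 hl0)]⟩
      · exact ⟨1, one_ne_zero, by rw [if_pos rfl, one_mul, one_mul]⟩
    rw [← Φ.finrank_M_square_class ρ (by omega) hv (g p).2 hQ hc hcv]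
    exact Submodule.one_le_finrank_iff.2 hne
  have h1 : Fintype.card (Bool × Fˣ × Φ.W 1) ≤ finrank ℂ V := by
    rw [← finrank_top ℂ V, ← Φ.E_zero ρ, ← Φ.sum_finrank_M ρ (k := 0) (by omega)]
    calc Fintype.card (Bool × Fˣ × Φ.W 1) = ∑ p : Bool × Fˣ × Φ.W 1, 1 := by simp
      _ ≤ ∑ p, finrank ℂ (Φ.M ρ 0 (g p).1) := Finset.sum_le_sum fun p _ => hpos p
      _ = ∑ w ∈ Finset.univ.image g, finrank ℂ (Φ.M ρ 0 w.1) :=
          (Finset.sum_image (g := g) (f := fun w : Φ.W 0 => finrank ℂ (Φ.M ρ 0 w.1)) hg.injOn).symm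
      _ ≤ _ := Finset.sum_le_sum_of_subset (Finset.subset_univ _)
  have h2 := Φ.card_W (n - 2) (by omega)
  rw [show n - 1 - (n - 2) = 1 by omega, Nat.card_eq_fintype_card] at h2
  rw [Fintype.card_prod, Fintype.card_prod, Fintype.card_bool, Fintype.card_units, h2] at h1
  have h3 := h.dim_lt h1
  obtain ⟨r, hr⟩ : ∃ r, Fintype.card F = r + 4 := ⟨Fintype.card F - 4, by omega⟩
  obtain ⟨i, rfl⟩ : ∃ i, n = i + 2 := ⟨n - 2, by omega⟩
  rw [hr] at h3
  have hY : 16 ≤ (r + 4) ^ i :=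
    le_trans (by nlinarith : 16 ≤ (r + 4) ^ 2) (Nat.pow_le_pow_right (by omega) (by omega))
  rw [Nat.add_sub_cancel, show i + 2 - 1 = i + 1 from rfl, two_mul i, pow_add (r + 4) i i,
    show r + 4 - 1 = r + 3 by omega] at h3
  rw [pow_succ (r + 4) i, pow_add (r + 4) i 2,
    show (r + 4) ^ 2 - 1 = r * r + 8 * r + 15 by rw [show (r + 4) ^ 2 = r * r + 8 * r + 15 + 1 by ring]; omega]
    at h3
  generalize (r + 4) ^ i = Y at *
  obtain ⟨y, rfl⟩ : ∃ y, Y = y + 16 := ⟨Y - 16, by omega⟩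
  have h4 := Nat.mul_le_mul_right ((y + 16) * (r + 4) + (r + 4)) (Nat.sub_le ((y + 16) * (r + 4) ^ 2) 1)
  nlinarith [Nat.zero_le (r * r * r * y * y), Nat.zero_le (r * r * y * y), Nat.zero_le (r * y * y), Nat.zero_le (y * y),
    Nat.zero_le (r * r * r * y), Nat.zero_le (r * r * y), Nat.zero_le (r * y), Nat.zero_le (r * r * r),
    Nat.zero_le (r * r), Nat.zero_le r, Nat.zero_le y]

theorem Small.finrank_le_one (h : Φ.Small ρ) {v : ι → F} (hv : v ∈ Φ.W 0) (hv0 : v ≠ 0) :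
    finrank ℂ (Φ.M ρ 0 v) ≤ 1 := by
  classical
  rcases ne_or_eq (Q v) 0 with hQ | hQ
  · rw [h.finrank_nonsingular hv hQ, finrank_bot]; omega
  by_contra hlt
  push Not at hlt
  have hn := h.hn
  have hq := h.hq
  have := Fintype.ofFinite (Φ.W 0)
  have hcard := Φ.card_singular (n - 1) (by omega)
  rw [Nat.sub_self, Nat.card_eq_fintype_card, Fintype.card_subtype] at hcard
  have h1 : 2 * (singCount (Fintype.card F) (n - 1) - 1) ≤ finrank ℂ V := by
    rw [← finrank_top ℂ V, ← Φ.E_zero ρ, ← Φ.sum_finrank_M ρ (k := 0) (by omega), ← hcard]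
    calc _ = ∑ w ∈ (Finset.univ.filter fun w : Φ.W 0 => Q w.1 = 0).erase 0, 2 := by
          rw [Finset.sum_const, smul_eq_mul, Finset.card_erase_of_mem (by simp), mul_comm]
      _ ≤ ∑ w ∈ (Finset.univ.filter fun w : Φ.W 0 => Q w.1 = 0).erase 0, finrank ℂ (Φ.M ρ 0 w.1) := by
          refine Finset.sum_le_sum fun w hw => ?_
          obtain ⟨hw0, hwQ⟩ : w ≠ 0 ∧ Q w.1 = 0 := by simpa using hw
          rw [(Φ.finrank_M_reduce ρ (by omega) (k := 0) (by omega) w.2 fun hz => hw0 (Subtype.ext hz)).1 hwQ,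
            ← (Φ.finrank_M_reduce ρ (by omega) (k := 0) (by omega) hv hv0).1 hQ]
          omega
      _ ≤ _ := Finset.sum_le_sum_of_subset (Finset.subset_univ _)
  have h3 := h.dim_lt h1
  obtain ⟨r, hr⟩ : ∃ r, Fintype.card F = r + 4 := ⟨Fintype.card F - 4, by omega⟩
  obtain ⟨i, rfl⟩ : ∃ i, n = i + 2 := ⟨n - 2, by omega⟩
  rw [hr] at h3
  have hY : 16 ≤ (r + 4) ^ i :=
    le_trans (by nlinarith : 16 ≤ (r + 4) ^ 2) (Nat.pow_le_pow_right (by omega) (by omega))
  have hS := singCount_succ (r + 4) (by omega) i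
  obtain ⟨T, hT⟩ : ∃ T, singCount (r + 4) (i + 1) = T + 1 := ⟨singCount (r + 4) (i + 1) - 1, by
    have := Nat.pow_le_pow_right (show 1 ≤ r + 4 by omega) (show i ≤ 2 * i + 1 by omega)
    have := Nat.one_le_pow (i + 1) (r + 4) (by omega)
    omega⟩
  rw [show i + 2 - 1 = i + 1 from rfl, hT, Nat.add_sub_cancel] at h3
  rw [hT, pow_succ (r + 4) (2 * i), two_mul i, pow_add (r + 4) i i, pow_succ (r + 4) i] at hS
  rw [pow_succ (r + 4) i, pow_add (r + 4) i 2,
    show (r + 4) ^ 2 - 1 = r * r + 8 * r + 15 by rw [show (r + 4) ^ 2 = r * r + 8 * r + 15 + 1 by ring]; omega]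
    at h3
  generalize (r + 4) ^ i = Y at *
  obtain ⟨y, rfl⟩ : ∃ y, Y = y + 16 := ⟨Y - 16, by omega⟩
  have h4 := Nat.mul_le_mul_right ((y + 16) * (r + 4) + (r + 4)) (Nat.sub_le ((y + 16) * (r + 4) ^ 2) 1)
  nlinarith [Nat.zero_le (r * r * r * y * y), Nat.zero_le (r * r * y * y), Nat.zero_le (r * y * y), Nat.zero_le (y * y),
    Nat.zero_le (r * r * r * y), Nat.zero_le (r * r * y), Nat.zero_le (r * y), Nat.zero_le (r * r * r),
    Nat.zero_le (r * r), Nat.zero_le r, Nat.zero_le y]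

theorem Small.thin (h : Φ.Small ρ) {k : ℕ} (hk : k < n) {v : ι → F} (hv : v ∈ Φ.W k) (hv0 : v ≠ 0) :
    finrank ℂ (Φ.M ρ k v) ≤ 1 ∧ (Q v ≠ 0 → Φ.M ρ k v = ⊥) := by
  induction k generalizing v with
  | zero => exact ⟨h.finrank_le_one hv hv0, h.finrank_nonsingular hv⟩
  | succ k ih =>
    have := Fintype.ofFinite (Φ.W k)
    have hup := Φ.upper ρ hk hv hv0
    obtain ⟨h1, h2⟩ := ih (v := -v) (by omega) (neg_mem (W_anti (Nat.le_succ k) hv)) (neg_ne_zero.2 hv0)
    refine ⟨hup.trans h1, fun hQ => Submodule.finrank_eq_zero.1 (Nat.le_zero.1 (hup.trans ?_))⟩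
    rw [h2 (by rwa [QuadraticMap.map_neg]), finrank_bot]

theorem singular_transfer (hn : 3 ≤ n) {k : ℕ} (hk : k + 2 < n) {v w : ι → F} (hv : v ∈ Φ.W k)
    (hv0 : v ≠ 0) (hvQ : Q v = 0) (hw : w ∈ Φ.W k) (hw0 : w ≠ 0) (hwQ : Q w = 0) :
    finrank ℂ (Φ.M ρ k v) = finrank ℂ (Φ.M ρ k w) := by
  rw [(Φ.finrank_M_reduce ρ hn hk hv hv0).1 hvQ, (Φ.finrank_M_reduce ρ hn hk hw hw0).1 hwQ]

theorem Small.full_upper (h : Φ.Small ρ) {k : ℕ} (hk : k + 2 < n) {v : ι → F} (hv : v ∈ Φ.W k) (hv0 : v ≠ 0)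
    (hQ : Q v = 0) : finrank ℂ (Φ.M ρ k v) = 1 := by
  have hn := h.hn
  refine le_antisymm (h.thin (by omega) hv hv0).1 ?_
  have hef : ∀ i, i < n → Φ.e i ≠ 0 := fun i hi => (Φ.hpair hi).ne_zero
  induction k generalizing v with
  | zero =>
    by_contra hlt
    refine h.moves (eq_top_iff.2 fun u _ => ?_)
    have := Fintype.ofFinite (Φ.W 0)
    rw [← Φ.M_zero ρ (show 0 < n by omega), ← Φ.sum_pM ρ (show 0 < n by omega) u,
      Finset.sum_eq_single (0 : Φ.W 0)]
    · exact Φ.pM_mem ρ (by omega) (0 : ι → F) (by rw [E_zero]; trivial)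
    · intro w _ hw
      have hw0 : w.1 ≠ 0 := fun hz => hw (Subtype.ext hz)
      have hmem := Φ.pM_mem ρ (show 0 < n by omega) w.1 (u := u) (by rw [E_zero]; trivial)
      have hbot : Φ.M ρ 0 w.1 = ⊥ := by
        rcases ne_or_eq (Q w.1) 0 with hq | hq
        · exact h.finrank_nonsingular w.2 hq
        · exact Submodule.finrank_eq_zero.1 (by
            rw [singular_transfer (by omega) hk w.2 hw0 hq hv hv0 hQ]; omega)
      rw [hbot] at hmem
      exact (Submodule.mem_bot ℂ).1 hmem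
    · exact fun hh => absurd (Finset.mem_univ _) hh
  | succ k ih =>
    have := Fintype.ofFinite (Φ.W k)
    have he := e_mem_W (Φ := Φ) (k := k + 1) (show k + 2 < n by omega) (by omega)
    rw [singular_transfer (by omega) hk hv hv0 hQ he (hef _ (by omega)) (Φ.qe _ (by omega))]
    refine Submodule.one_le_finrank_iff.2 (Φ.lower ρ h.hq (by omega)
      (fun w hw hw0 => (h.thin (by omega) hw hw0).1) (Submodule.one_le_finrank_iff.1 ?_))
    exact ih (by omega) (neg_mem (W_anti (Nat.le_succ k) he)) (neg_ne_zero.2 (hef _ (by omega)))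
      (by rw [QuadraticMap.map_neg, Φ.qe _ (by omega)])

theorem Small.full_e (h : Φ.Small ρ) {k : ℕ} (hk : k + 2 = n) {a : F} (ha : a ≠ 0) :
    finrank ℂ (Φ.M ρ k (a • Φ.e (k + 1))) = 1 := by
  have hn := h.hn
  obtain ⟨j, rfl⟩ : ∃ j, k = j + 1 := ⟨k - 1, by omega⟩
  have hne : ∀ i, i < n → Φ.e i ≠ 0 := fun i hi => (Φ.hpair hi).ne_zero
  have hj : j + 2 < n := by omega
  have := Fintype.ofFinite (Φ.W j)
  have he := e_mem_W (Φ := Φ) (k := j + 1) hj (Nat.lt_succ_self _)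
  have hmem := Submodule.smul_mem _ a he
  refine le_antisymm (h.thin (by omega) hmem (smul_ne_zero ha (hne _ hj))).1 ?_
  have h1 := Φ.finrank_M_pair ρ (by omega) (show j + 1 + 1 < n by omega) (1 : F) 0 ha
  rw [one_smul, zero_smul, add_zero, one_mul, zero_mul, zero_smul, add_zero] at h1
  rw [← h1]
  refine Submodule.one_le_finrank_iff.2 (Φ.lower ρ h.hq hj
    (fun w hw hw0 => (h.thin (by omega) hw hw0).1) (Submodule.one_le_finrank_iff.1 ?_))
  rw [h.full_upper hj (neg_mem (W_anti (Nat.le_succ j) he)) (neg_ne_zero.2 (hne _ hj))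
    (by rw [QuadraticMap.map_neg, Φ.qe _ hj])]

theorem Small.full (h : Φ.Small ρ) {k : ℕ} (hk : k + 1 < n) {v : ι → F} (hv : v ∈ Φ.W k) (hv0 : v ≠ 0)
    (hQ : Q v = 0) : finrank ℂ (Φ.M ρ k v) = 1 := by
  rcases Nat.lt_or_ge (k + 2) n with h2 | h2
  · exact h.full_upper h2 hv hv0 hQ
  have hk2 : k + 2 = n := by omega
  have hp : Φ.projW (k + 1) v = 0 := Φ.W_bot (by
    rw [show n - 1 = k + 1 by omega]; exact Φ.projW_mem hk v)
  have hv1 := W_coords hv
  rw [hp, add_zero] at hv1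
  rw [Q_coords hk hv, hp, QuadraticMap.map_zero, add_zero, mul_eq_zero] at hQ
  rcases hQ with hQ | hQ <;> rw [hQ, zero_smul] at hv1
  · rw [zero_add] at hv1
    have h3 := h.flip.full_e hk2 (a := polar ⇑Q (Φ.e (k + 1)) v) fun e => hv0 (by rw [hv1, e, zero_smul])
    rwa [Φ.flip_M ρ hk, Φ.flip_last_e (show k + 1 + 1 = n by omega), ← hv1] at h3
  · rw [add_zero] at hv1
    have h3 := h.full_e hk2 (a := polar ⇑Q (Φ.f (k + 1)) v) fun e => hv0 (by rw [hv1, e, zero_smul])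
    rwa [← hv1] at h3

theorem E_bottom (hn : 1 ≤ n) : Φ.E ρ (n - 1) = Φ.E ρ n := by
  refine le_antisymm (fun u hu => ?_) (Φ.E_anti ρ (Nat.sub_le n 1))
  have := Fintype.ofFinite (Φ.W (n - 1))
  have hk : n - 1 < n := by omega
  have hM : Φ.M ρ (n - 1) 0 = Φ.E ρ n := by rw [Φ.M_zero ρ hk, Nat.sub_add_cancel hn]
  rw [← hM, ← Φ.sum_pM ρ hk u, Finset.sum_eq_single (0 : Φ.W (n - 1))]
  · exact Φ.pM_mem ρ hk (0 : ι → F) hu
  · intro w _ hw
    exact absurd (Subtype.ext (Φ.W_bot w.2)) hw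
  · exact fun hh => absurd (Finset.mem_univ _) hh

theorem Small.finrank_E_step (h : Φ.Small ρ) {k : ℕ} (hk : k + 1 < n) :
    finrank ℂ (Φ.E ρ k) + 1 = finrank ℂ (Φ.E ρ (k + 1)) + singCount (Fintype.card F) (n - 1 - k) := by
  classical
  have hk' : k < n := by omega
  have := Fintype.ofFinite (Φ.W k)
  have hcard := Φ.card_singular (n - 1 - k) (by omega)
  rw [show n - 1 - (n - 1 - k) = k by omega, Nat.card_eq_fintype_card, Fintype.card_subtype] at hcard
  rw [← Φ.sum_finrank_M ρ hk', ← hcard, ← Finset.add_sum_erase _ _ (Finset.mem_univ (0 : Φ.W k))]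
  have h0 : ((0 : Φ.W k) : ι → F) = 0 := rfl
  rw [h0, Φ.M_zero ρ hk', add_assoc]
  congr 1
  rw [← Finset.card_erase_add_one (a := (0 : Φ.W k)) (by simp), add_left_inj]
  rw [← Finset.sum_subset (s₁ := (Finset.univ.filter fun w : Φ.W k => Q w.1 = 0).erase 0)]
  · rw [Finset.card_eq_sum_ones]
    refine Finset.sum_congr rfl fun w hw => ?_
    obtain ⟨hw0, hwQ⟩ : w ≠ 0 ∧ Q w.1 = 0 := by simpa using hw
    exact h.full hk w.2 (fun hz => hw0 (Subtype.ext hz)) hwQ
  · exact Finset.erase_subset_erase _ (Finset.subset_univ _)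
  · intro w hw hw'
    have hw0 : w ≠ 0 := by simpa using hw
    have hQ : Q w.1 ≠ 0 := fun hq => hw' (by simp [hw0, hq])
    rw [(h.thin hk' w.2 fun hz => hw0 (Subtype.ext hz)).2 hQ, finrank_bot]

theorem step_arith {q e E' E S A B m : ℕ} (hq : 1 ≤ q) (hA : A + 1 = q * e) (hB : B + 1 = q * (q * e))
    (hS : S + e = q * (e * e) + q * e) (hE : E' + 1 = E + S) {C : ℕ} (hC : C + 1 = q * q)
    (h : A * (e + q) + C * (m + 1) ≤ C * E) : B * (q * e + q) + C * m ≤ C * E' := by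
  zify at *
  nlinarith

theorem Small.bound_of_fix (h : Φ.Small ρ) : finrank ℂ (Φ.E ρ n) < n := by
  by_contra hle
  push Not at hle
  have hn := h.hn
  obtain ⟨q, hq⟩ : ∃ q, q = Fintype.card F := ⟨_, rfl⟩
  have hq1 : 1 ≤ q := by have := h.hq; omega
  have hp : ∀ i, 1 ≤ q ^ i := fun i => Nat.one_le_pow _ _ hq1
  have key : ∀ j, j < n →
      (q ^ (j + 1) - 1) * (q ^ j + q) + (q ^ 2 - 1) * (n - 1 - j) ≤
        (q ^ 2 - 1) * finrank ℂ (Φ.E ρ (n - 1 - j)) := by
    intro j hj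
    induction j with
    | zero =>
      rw [Nat.sub_zero, E_bottom (Φ := Φ) (ρ := ρ) (by omega), pow_zero, zero_add, pow_one]
      refine le_trans (le_of_eq ?_) (Nat.mul_le_mul_left _ hle)
      obtain ⟨r, rfl⟩ : ∃ r, q = r + 1 := ⟨q - 1, by omega⟩
      rw [show (r + 1) ^ 2 - 1 = r * (r + 2) by rw [show (r + 1) ^ 2 = r * (r + 2) + 1 by ring]; omega]
      obtain ⟨m, rfl⟩ : ∃ m, n = m + 1 := ⟨n - 1, by omega⟩
      rw [Nat.add_sub_cancel, Nat.add_sub_cancel]
      ring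
    | succ j ih =>
      have h1 := h.finrank_E_step (k := n - 1 - (j + 1)) (by omega)
      rw [show n - 1 - (n - 1 - (j + 1)) = j + 1 by omega, show n - 1 - (j + 1) + 1 = n - 1 - j by omega, ← hq] at h1
      have h2 := ih (by omega)
      rw [show n - 1 - j = n - 1 - (j + 1) + 1 by omega] at h2 h1
      have hS := singCount_succ q hq1 j
      rw [pow_succ' q (2 * j), two_mul j, pow_add q j j, pow_succ' q j] at hS
      rw [pow_succ' q (j + 1), pow_succ' q j]
      refine step_arith (e := q ^ j) (S := singCount q (j + 1)) (A := q ^ (j + 1) - 1) hq1 ?_ ?_ hS h1 ?_ h2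
      · rw [Nat.sub_add_cancel (hp _), pow_succ']
      · refine Nat.sub_add_cancel ?_
        have := hp (j + 1 + 1)
        rwa [pow_succ', pow_succ'] at this
      · rw [Nat.sub_add_cancel (hp _), sq]
  have h1 := key (n - 1) (by omega)
  rw [Nat.sub_self, E_zero, finrank_top, Nat.sub_add_cancel (by omega : 1 ≤ n), mul_zero, add_zero, hq] at h1
  exact absurd h.small (Nat.not_lt.2 h1)

end Frame

end Cfsg.Agent.OrthPlusMinDegree
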