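import Cfsg.Agent.Lib.Orth.Eichler
import Cfsg.Agent.EqLemmas
/-
A hyperbolic frame e_0..e_{n-1}, f_0..f_{n-1} of a quadratic space and elements of Ω adapted to it.
* Frame (the pairs span everything: plus type, any characteristic); W k = orthogonal of e_j, f_j (j ≤ k); projW, decomp, ext
* em u w : eich as an element of Ω; eich_comm, em_add, em_add_left, em_mul
* Diag k : g maps every e_j, f_j (j ≤ k) into its own line
* nEl (short swap e ↔ f), sEl (swap of two pairs), pairT, sqT; their actions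
-/
set_option autoImplicit false
set_option linter.unusedSectionVars false

namespace Cfsg.Agent.OrthPlusMinDegree

open Cfsg Matrix Module
open Cfsg.Agent.Orth
open QuadraticMap (polar)

variable {ι : Type} [Fintype ι] [DecidableEq ι] {F : Type*} [Field F] [Fintype F]

/-- A hyperbolic frame spanning the space. -/
structure Frame (Q : QuadraticForm F (ι → F)) (n : ℕ) where
  e : ℕ → ι → F
  f : ℕ → ι → F
  qe : ∀ i, i < n → Q (e i) = 0
  qf : ∀ i, i < n → Q (f i) = 0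
  pef : ∀ i, i < n → polar ⇑Q (e i) (f i) = 1
  pne : ∀ i j, i < n → j < n → i ≠ j → polar ⇑Q (e i) (e j) = 0
  pnf : ∀ i j, i < n → j < n → i ≠ j → polar ⇑Q (f i) (f j) = 0
  pnef : ∀ i j, i < n → j < n → i ≠ j → polar ⇑Q (e i) (f j) = 0
  nd : Q.polarBilin.Nondegenerate
  hn : 5 ≤ Fintype.card ι
  n_pos : 1 ≤ n
  hcore : ∀ x, (∀ i, i < n → polar ⇑Q (e i) x = 0 ∧ polar ⇑Q (f i) x = 0) → x = 0

variable {Q : QuadraticForm F (ι → F)} {n : ℕ}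

/-- The group `Ω`. -/
abbrev OG (Q : QuadraticForm F (ι → F)) : Type _ := ↥(Omega F ⇑Q)

/-- The action on vectors. -/
def act (g : OG Q) : (ι → F) →ₗ[F] (ι → F) := ap (g : IsoGrp Q)

theorem act_mul (g h : OG Q) (x : ι → F) : act (g * h) x = act g (act h x) := ap_mul _ _ x

theorem act_one (x : ι → F) : act (1 : OG Q) x = x := ap_one x

theorem act_inv_act (g : OG Q) (x : ι → F) : act g⁻¹ (act g x) = x := ap_inv_ap _ x

theorem act_act_inv (g : OG Q) (x : ι → F) : act g (act g⁻¹ x) = x := ap_ap_inv _ x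

theorem act_polar (g : OG Q) (x y : ι → F) : polar ⇑Q (act g x) (act g y) = polar ⇑Q x y :=
  polar_ap _ x y

theorem act_Q (g : OG Q) (x : ι → F) : Q (act g x) = Q x := Q_ap _ x

theorem OG.ext_act {g h : OG Q} (H : ∀ x, act g x = act h x) : g = h := Subtype.ext (ext_ap H)

theorem eich_comm {u w : ι → F} (hu : Q u = 0) (hw : Q w = 0) (huw : polar ⇑Q u w = 0) :
    eich Q u w = eich Q w (-u) := by
  refine ext_ap fun x => ?_
  rw [eich_ap hu huw, eich_ap hw (by rw [pl_neg_right, pl_comm, huw, neg_zero]), hw,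
    QuadraticMap.map_neg, hu, pl_neg_left]
  module

namespace Frame

variable (Φ : Frame Q n)

theorem pfe {i : ℕ} (hi : i < n) : polar ⇑Q (Φ.f i) (Φ.e i) = 1 := by rw [pl_comm, Φ.pef i hi]

theorem pee {i j : ℕ} (hi : i < n) (hj : j < n) : polar ⇑Q (Φ.e i) (Φ.e j) = 0 := by
  rcases eq_or_ne i j with rfl | h
  · rw [pl_self, Φ.qe i hi, mul_zero]
  · exact Φ.pne i j hi hj h

theorem pff {i j : ℕ} (hi : i < n) (hj : j < n) : polar ⇑Q (Φ.f i) (Φ.f j) = 0 := by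
  rcases eq_or_ne i j with rfl | h
  · rw [pl_self, Φ.qf i hi, mul_zero]
  · exact Φ.pnf i j hi hj h

theorem pnfe {i j : ℕ} (hi : i < n) (hj : j < n) (h : i ≠ j) : polar ⇑Q (Φ.f i) (Φ.e j) = 0 := by
  rw [pl_comm, Φ.pnef j i hj hi h.symm]

theorem hpair {i : ℕ} (hi : i < n) : HPair Q (Φ.e i) (Φ.f i) := ⟨Φ.qe i hi, Φ.qf i hi, Φ.pef i hi⟩

/-- The orthogonal of the pairs `j ≤ k`. -/
def W (k : ℕ) : Submodule F (ι → F) where
  carrier := {x | ∀ j ≤ k, polar ⇑Q (Φ.e j) x = 0 ∧ polar ⇑Q (Φ.f j) x = 0}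
  zero_mem' j _ := ⟨pl_zero_right Q _, pl_zero_right Q _⟩
  add_mem' {x y} hx hy j hj := ⟨by rw [pl_add_right, (hx j hj).1, (hy j hj).1, add_zero],
    by rw [pl_add_right, (hx j hj).2, (hy j hj).2, add_zero]⟩
  smul_mem' c x hx j hj := ⟨by rw [pl_smul_right, (hx j hj).1, mul_zero],
    by rw [pl_smul_right, (hx j hj).2, mul_zero]⟩

variable {Φ}

theorem mem_W {k : ℕ} {x : ι → F} :
    x ∈ Φ.W k ↔ ∀ j ≤ k, polar ⇑Q (Φ.e j) x = 0 ∧ polar ⇑Q (Φ.f j) x = 0 := Iff.rfl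

theorem W_anti {j k : ℕ} (h : j ≤ k) : Φ.W k ≤ Φ.W j := fun _ hx i hi => hx i (hi.trans h)

theorem W_e {x : ι → F} {j k : ℕ} (hx : x ∈ Φ.W k) (hj : j ≤ k) : polar ⇑Q (Φ.e j) x = 0 := (hx j hj).1

theorem W_f {x : ι → F} {j k : ℕ} (hx : x ∈ Φ.W k) (hj : j ≤ k) : polar ⇑Q (Φ.f j) x = 0 := (hx j hj).2

theorem e_mem_W {i k : ℕ} (hi : i < n) (h : k < i) : Φ.e i ∈ Φ.W k := fun j hj =>
  ⟨Φ.pee (by omega) hi, Φ.pnfe (by omega) hi (by omega)⟩

theorem f_mem_W {i k : ℕ} (hi : i < n) (h : k < i) : Φ.f i ∈ Φ.W k := fun j hj =>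
  ⟨Φ.pnef j i (by omega) hi (by omega), Φ.pff (by omega) hi⟩

variable (Φ)

/-- The projection to `W k`. -/
def projW (k : ℕ) (x : ι → F) : ι → F :=
  x - ∑ j ∈ Finset.range (k + 1), (polar ⇑Q (Φ.f j) x • Φ.e j + polar ⇑Q (Φ.e j) x • Φ.f j)

theorem polar_sum (v : ι → F) (s : Finset ℕ) (g : ℕ → ι → F) :
    polar ⇑Q v (∑ j ∈ s, g j) = ∑ j ∈ s, polar ⇑Q v (g j) :=
  map_sum (Q.polarBilin v) g s

theorem projW_mem {k : ℕ} (hk : k < n) (x : ι → F) : Φ.projW k x ∈ Φ.W k := by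
  intro i hi
  have hi' : i < n := by omega
  constructor <;>
  · rw [projW, pl_sub_right, polar_sum, Finset.sum_eq_single i]
    · simp only [pl_add_right, pl_smul_right, Φ.pee hi' hi', Φ.pff hi' hi', Φ.pef i hi', Φ.pfe hi',
        mul_zero, mul_one, add_zero, zero_add, sub_self]
    · intro j hj hne
      have hj' : j < n := by have := Finset.mem_range.1 hj; omega
      simp only [pl_add_right, pl_smul_right, Φ.pee hi' hj', Φ.pff hi' hj', Φ.pnef i j hi' hj' hne.symm,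
        Φ.pnfe hi' hj' hne.symm, mul_zero, add_zero]
    · intro h
      exact absurd (Finset.mem_range.2 (by omega)) h

theorem decomp (k : ℕ) (x : ι → F) :
    x = ∑ j ∈ Finset.range (k + 1), (polar ⇑Q (Φ.f j) x • Φ.e j + polar ⇑Q (Φ.e j) x • Φ.f j) + Φ.projW k x := by
  simp [projW]

theorem ext {g h : OG Q} (he : ∀ j < n, act g (Φ.e j) = act h (Φ.e j))
    (hf : ∀ j < n, act g (Φ.f j) = act h (Φ.f j)) (hw : ∀ x ∈ Φ.W (n - 1), act g x = act h x) : g = h :=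
  OG.ext_act fun x => by
    have hn := Φ.n_pos
    rw [Φ.decomp (n - 1) x, map_add, map_add, map_sum, map_sum, hw _ (Φ.projW_mem (by omega) x)]
    congr 1
    refine Finset.sum_congr rfl fun j hj => ?_
    rw [Finset.mem_range, Nat.sub_add_cancel hn] at hj
    rw [map_add, map_add, map_smul, map_smul, map_smul, map_smul, he j hj, hf j hj]

end Frame

/-! ### Elements -/

theorem eichGen_le (Φ : Frame Q n) : eichGen Q ≤ Omega F ⇑Q :=
  eichGen_le_omega Φ.nd (by have := Φ.hn; omega) (.inr Φ.hn)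

/-- An Eichler transformation as an element of `Ω`. -/
noncomputable def Frame.em (Φ : Frame Q n) (u w : ι → F) : OG Q :=
  ⟨eich Q u w, eichGen_le Φ (eich_mem_eichGen u w)⟩

variable (Φ : Frame Q n)

namespace Frame

theorem act_em {u w : ι → F} (hu : Q u = 0) (huw : polar ⇑Q u w = 0) (x : ι → F) :
    act (Φ.em u w) x = x + polar ⇑Q u x • w - (polar ⇑Q w x + Q w * polar ⇑Q u x) • u :=
  eich_ap hu huw x

theorem act_em_fix {u w : ι → F} (hu : Q u = 0) (huw : polar ⇑Q u w = 0) {x : ι → F}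
    (h1 : polar ⇑Q u x = 0) (h2 : polar ⇑Q w x = 0) : act (Φ.em u w) x = x := by
  rw [Φ.act_em hu huw, h1, h2, mul_zero, add_zero, zero_smul, zero_smul, add_zero, sub_zero]

theorem mul_em (g : OG Q) (u w : ι → F) : g * Φ.em u w = Φ.em (act g u) (act g w) * g :=
  Subtype.ext (mul_eich (g : IsoGrp Q) u w)

theorem em_add {u w w' : ι → F} (hu : Q u = 0) (h : polar ⇑Q u w = 0) (h' : polar ⇑Q u w' = 0) :
    Φ.em u (w + w') = Φ.em u w * Φ.em u w' :=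
  Subtype.ext (eich_add hu h h').symm

theorem em_zero (u : ι → F) : Φ.em u 0 = 1 := Subtype.ext (eich_zero u)

theorem em_smul_left (u w : ι → F) (c : F) : Φ.em (c • u) w = Φ.em u (c • w) :=
  Subtype.ext (eich_smul_left u w c)

theorem em_comm {u w : ι → F} (hu : Q u = 0) (hw : Q w = 0) (huw : polar ⇑Q u w = 0) :
    Φ.em u w = Φ.em w (-u) :=
  Subtype.ext (eich_comm hu hw huw)

theorem em_add_left {u u' w : ι → F} (hu : Q u = 0) (hu' : Q u' = 0) (huu : polar ⇑Q u u' = 0)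
    (hw : Q w = 0) (h : polar ⇑Q u w = 0) (h' : polar ⇑Q u' w = 0) :
    Φ.em (u + u') w = Φ.em u w * Φ.em u' w := by
  rw [Φ.em_comm (by rw [Q_add, hu, hu', huu]; ring) hw (by rw [pl_add_left, h, h', add_zero]),
    Φ.em_comm hu hw h, Φ.em_comm hu' hw h', neg_add,
    Φ.em_add hw (by rw [pl_neg_right, pl_comm, h, neg_zero]) (by rw [pl_neg_right, pl_comm, h', neg_zero])]

theorem em_add_self {u w : ι → F} (hu : Q u = 0) (h : polar ⇑Q u w = 0) (c : F) :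
    Φ.em u (w + c • u) = Φ.em u w :=
  Subtype.ext (eich_add_smul_self hu h c)

/-- `g` maps each of `e j`, `f j`, `j ≤ k`, into its line. -/
def Diag (g : OG Q) (k : ℕ) : Prop :=
  ∀ j ≤ k, (∃ c : F, c ≠ 0 ∧ act g (Φ.e j) = c • Φ.e j) ∧ ∃ c : F, c ≠ 0 ∧ act g (Φ.f j) = c • Φ.f j

variable {Φ}

theorem Diag.mono {g : OG Q} {j k : ℕ} (h : Φ.Diag g k) (hjk : j ≤ k) : Φ.Diag g j :=
  fun i hi => h i (hi.trans hjk)

theorem Diag.mul {g g' : OG Q} {k : ℕ} (h : Φ.Diag g k) (h' : Φ.Diag g' k) : Φ.Diag (g * g') k := by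
  intro j hj
  obtain ⟨⟨a, ha, he⟩, b, hb, hf⟩ := h j hj
  obtain ⟨⟨a', ha', he'⟩, b', hb', hf'⟩ := h' j hj
  exact ⟨⟨a' * a, mul_ne_zero ha' ha, by rw [act_mul, he', map_smul, he, smul_smul]⟩,
    b' * b, mul_ne_zero hb' hb, by rw [act_mul, hf', map_smul, hf, smul_smul]⟩

theorem Diag.inv {g : OG Q} {k : ℕ} (h : Φ.Diag g k) : Φ.Diag g⁻¹ k := by
  intro j hj
  obtain ⟨⟨a, ha, he⟩, b, hb, hf⟩ := h j hj
  refine ⟨⟨a⁻¹, inv_ne_zero ha, ?_⟩, b⁻¹, inv_ne_zero hb, ?_⟩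
  · conv_rhs => rw [← act_inv_act g (Φ.e j), he, map_smul, smul_smul, inv_mul_cancel₀ ha, one_smul]
  · conv_rhs => rw [← act_inv_act g (Φ.f j), hf, map_smul, smul_smul, inv_mul_cancel₀ hb, one_smul]

theorem diag_one (k : ℕ) : Φ.Diag 1 k := fun j _ =>
  ⟨⟨1, one_ne_zero, by rw [act_one, one_smul]⟩, 1, one_ne_zero, by rw [act_one, one_smul]⟩

theorem Diag.map_W {g : OG Q} {k : ℕ} (h : Φ.Diag g k) {x : ι → F} (hx : x ∈ Φ.W k) :
    act g x ∈ Φ.W k := by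
  intro j hj
  obtain ⟨⟨a, ha, he⟩, b, hb, hf⟩ := h j hj
  obtain ⟨h1, h2⟩ := hx j hj
  refine ⟨?_, ?_⟩
  · rw [← act_polar g, he, pl_smul_left] at h1
    exact (mul_eq_zero.1 h1).resolve_left ha
  · rw [← act_polar g, hf, pl_smul_left] at h2
    exact (mul_eq_zero.1 h2).resolve_left hb

theorem diag_em {u w : ι → F} (hu : Q u = 0) (huw : polar ⇑Q u w = 0) {k : ℕ} (hu' : u ∈ Φ.W k)
    (hw' : w ∈ Φ.W k) : Φ.Diag (Φ.em u w) k := fun j hj =>
  ⟨⟨1, one_ne_zero, by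
    rw [one_smul, Φ.act_em_fix hu huw (by rw [pl_comm]; exact W_e hu' hj) (by rw [pl_comm]; exact W_e hw' hj)]⟩,
    1, one_ne_zero, by
    rw [one_smul, Φ.act_em_fix hu huw (by rw [pl_comm]; exact W_f hu' hj) (by rw [pl_comm]; exact W_f hw' hj)]⟩

variable (Φ)

/-! ### The short swap -/

/-- For a non-singular `z` orthogonal to `e, f`: `e ↦ -Q z f`, `z ↦ -z`. -/
noncomputable def nEl (e f z : ι → F) : OG Q :=
  Φ.em e ((Q z)⁻¹ • z) * Φ.em f z * Φ.em e ((Q z)⁻¹ • z)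

theorem nEl_spec {e f z : ι → F} (h : HPair Q e f) (he : polar ⇑Q e z = 0) (hf : polar ⇑Q f z = 0)
    (hz : Q z ≠ 0) :
    act (Φ.nEl e f z) e = (-Q z) • f ∧ act (Φ.nEl e f z) f = (-(Q z)⁻¹) • e ∧
      act (Φ.nEl e f z) z = -z ∧
      ∀ x, polar ⇑Q e x = 0 → polar ⇑Q f x = 0 → polar ⇑Q z x = 0 → act (Φ.nEl e f z) x = x := by
  have hfe : polar ⇑Q f e = 1 := by rw [pl_comm]; exact h.pf
  have hze : polar ⇑Q z e = 0 := by rw [pl_comm]; exact he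
  have hzf : polar ⇑Q z f = 0 := by rw [pl_comm]; exact hf
  have hsz : polar ⇑Q e ((Q z)⁻¹ • z) = 0 := by rw [pl_smul_right, he, mul_zero]
  have hee : polar ⇑Q e e = 0 := by rw [pl_self, h.qe, mul_zero]
  have hff : polar ⇑Q f f = 0 := by rw [pl_self, h.qf, mul_zero]
  refine ⟨?_, ?_, ?_, fun x h1 h2 h3 => ?_⟩
  · simp only [nEl, act_mul, Φ.act_em h.qe hsz, Φ.act_em h.qf hf, map_add, map_sub, map_smul, pl_smul_left,
      pl_smul_right, pl_add_right, pl_sub_right, Q_smul, hee, hff, hfe, h.pf, he, hf, hze, hzf, pl_self Q z]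
    match_scalars <;> field_simp <;> ring
  · simp only [nEl, act_mul, Φ.act_em h.qe hsz, Φ.act_em h.qf hf, map_add, map_sub, map_smul, pl_smul_left,
      pl_smul_right, pl_add_right, pl_sub_right, Q_smul, hee, hff, hfe, h.pf, he, hf, hze, hzf, pl_self Q z]
    match_scalars <;> field_simp <;> ring
  · simp only [nEl, act_mul, Φ.act_em h.qe hsz, Φ.act_em h.qf hf, map_add, map_sub, map_smul, pl_smul_left,
      pl_smul_right, pl_add_right, pl_sub_right, Q_smul, hee, hff, hfe, h.pf, he, hf, hze, hzf, pl_self Q z]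
    match_scalars <;> field_simp <;> ring
  · have h4 : polar ⇑Q ((Q z)⁻¹ • z) x = 0 := by rw [pl_smul_left, h3, mul_zero]
    rw [nEl, act_mul, act_mul, Φ.act_em_fix h.qe hsz h1 h4, Φ.act_em_fix h.qf hf h2 h3,
      Φ.act_em_fix h.qe hsz h1 h4]

theorem nEl_perp {e f z : ι → F} (h : HPair Q e f) (he : polar ⇑Q e z = 0) (hf : polar ⇑Q f z = 0)
    (hz : Q z ≠ 0) {x : ι → F} (h1 : polar ⇑Q e x = 0) (h2 : polar ⇑Q f x = 0) :
    act (Φ.nEl e f z) x = x - (polar ⇑Q z x / Q z) • z := by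
  have hfe : polar ⇑Q f e = 1 := by rw [pl_comm]; exact h.pf
  have hze : polar ⇑Q z e = 0 := by rw [pl_comm]; exact he
  have hzf : polar ⇑Q z f = 0 := by rw [pl_comm]; exact hf
  have hee : polar ⇑Q e e = 0 := by rw [pl_self, h.qe, mul_zero]
  have hsz : polar ⇑Q e ((Q z)⁻¹ • z) = 0 := by rw [pl_smul_right, he, mul_zero]
  simp only [nEl, act_mul, Φ.act_em h.qe hsz, Φ.act_em h.qf hf, map_add, map_sub, map_smul, pl_smul_left,
    pl_smul_right, pl_add_right, pl_sub_right, Q_smul, hee, hfe, h.pf, he, hf, hze, hzf, h1, h2, pl_self Q z]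
  match_scalars <;> field_simp <;> ring

/-! ### The swap of two pairs -/

/-- `e_i ↦ a⁻¹ e_j ↦ -e_i`. -/
noncomputable def sEl (i j : ℕ) (a : F) : OG Q :=
  Φ.em (Φ.e i) (a • Φ.f j) * Φ.em (Φ.e j) ((-a⁻¹) • Φ.f i) * Φ.em (Φ.e i) (a • Φ.f j)

theorem sEl_spec {i j : ℕ} (hi : i < n) (hj : j < n) (hij : i ≠ j) {a : F} (ha : a ≠ 0) :
    act (Φ.sEl i j a) (Φ.e i) = a⁻¹ • Φ.e j ∧ act (Φ.sEl i j a) (Φ.e j) = (-a) • Φ.e i ∧
      act (Φ.sEl i j a) (Φ.f i) = a • Φ.f j ∧ act (Φ.sEl i j a) (Φ.f j) = (-a⁻¹) • Φ.f i ∧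
      ∀ x, polar ⇑Q (Φ.e i) x = 0 → polar ⇑Q (Φ.f i) x = 0 → polar ⇑Q (Φ.e j) x = 0 →
        polar ⇑Q (Φ.f j) x = 0 → act (Φ.sEl i j a) x = x := by
  have h1 : polar ⇑Q (Φ.e i) (a • Φ.f j) = 0 := by rw [pl_smul_right, Φ.pnef i j hi hj hij, mul_zero]
  have h2 : polar ⇑Q (Φ.e j) ((-a⁻¹) • Φ.f i) = 0 := by
    rw [pl_smul_right, Φ.pnef j i hj hi hij.symm, mul_zero]
  refine ⟨?_, ?_, ?_, ?_, fun x hx1 hx2 hx3 hx4 => ?_⟩
  rotate_left 4
  · rw [sEl, act_mul, act_mul,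
      Φ.act_em_fix (Φ.qe i hi) h1 hx1 (by rw [pl_smul_left, hx4, mul_zero]),
      Φ.act_em_fix (Φ.qe j hj) h2 hx3 (by rw [pl_smul_left, hx2, mul_zero]),
      Φ.act_em_fix (Φ.qe i hi) h1 hx1 (by rw [pl_smul_left, hx4, mul_zero])]
  all_goals
    simp only [sEl, act_mul, Φ.act_em (Φ.qe i hi) h1, Φ.act_em (Φ.qe j hj) h2, map_add, map_sub, map_smul,
      pl_smul_left, pl_smul_right, pl_add_right, pl_sub_right, Q_smul, Φ.qf i hi, Φ.qf j hj, Φ.pee hi hi,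
      Φ.pee hi hj, Φ.pee hj hi, Φ.pee hj hj, Φ.pff hi hi, Φ.pff hi hj, Φ.pff hj hi, Φ.pff hj hj,
      Φ.pef i hi, Φ.pef j hj, Φ.pfe hi, Φ.pfe hj, Φ.pnef i j hi hj hij, Φ.pnef j i hj hi hij.symm,
      Φ.pnfe hi hj hij, Φ.pnfe hj hi hij.symm]
    match_scalars <;> field_simp <;> ring

/-! ### Torus elements -/

/-- `e_i ↦ x e_i`, `e_j ↦ x⁻¹ e_j`. -/
noncomputable def pairT (i j : ℕ) (x : F) : OG Q := (Φ.sEl i j x)⁻¹ * Φ.sEl i j 1

theorem sEl_core {i j : ℕ} (hi : i < n) (hj : j < n) (hij : i ≠ j) {a : F} (ha : a ≠ 0) {x : ι → F}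
    {k : ℕ} (hx : x ∈ Φ.W k) (hik : i ≤ k) (hjk : j ≤ k) : act (Φ.sEl i j a) x = x :=
  (Φ.sEl_spec hi hj hij ha).2.2.2.2 x (W_e hx hik) (W_f hx hik) (W_e hx hjk) (W_f hx hjk)

theorem pairT_spec {i j : ℕ} (hi : i < n) (hj : j < n) (hij : i ≠ j) {x : F} (hx : x ≠ 0) :
    act (Φ.pairT i j x) (Φ.e i) = x • Φ.e i ∧ act (Φ.pairT i j x) (Φ.e j) = x⁻¹ • Φ.e j ∧
      act (Φ.pairT i j x) (Φ.f i) = x⁻¹ • Φ.f i ∧ act (Φ.pairT i j x) (Φ.f j) = x • Φ.f j ∧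
      ∀ y, polar ⇑Q (Φ.e i) y = 0 → polar ⇑Q (Φ.f i) y = 0 → polar ⇑Q (Φ.e j) y = 0 →
        polar ⇑Q (Φ.f j) y = 0 → act (Φ.pairT i j x) y = y := by
  obtain ⟨a1, a2, a3, a4, a5⟩ := Φ.sEl_spec hi hj hij hx
  obtain ⟨b1, b2, b3, b4, b5⟩ := Φ.sEl_spec hi hj hij (one_ne_zero (α := F))
  have key : ∀ (u : ι → F) (c : F) (w : ι → F), act (Φ.sEl i j x) (c • u) = w →
      act (Φ.sEl i j x)⁻¹ w = c • u := fun u c w h => by
    rw [← h, act_inv_act]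
  refine ⟨?_, ?_, ?_, ?_, fun y h1 h2 h3 h4 => ?_⟩ <;> rw [pairT, act_mul]
  · rw [b1]
    exact key _ _ _ (by rw [map_smul, a1, smul_smul, mul_inv_cancel₀ hx, inv_one])
  · rw [b2]
    exact key _ _ _ (by rw [map_smul, a2, smul_smul, mul_neg, inv_mul_cancel₀ hx])
  · rw [b3]
    exact key _ _ _ (by rw [map_smul, a3, smul_smul, inv_mul_cancel₀ hx])
  · rw [b4]
    exact key _ _ _ (by rw [map_smul, a4, smul_smul, mul_neg, mul_inv_cancel₀ hx, inv_one])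
  · rw [b5 y h1 h2 h3 h4]
    conv_lhs => rw [← a5 y h1 h2 h3 h4, act_inv_act]

/-- `e_i ↦ y² e_i`. -/
noncomputable def sqT (z : ι → F) (i : ℕ) (y : F) : OG Q :=
  (Φ.nEl (Φ.e i) (Φ.f i) (y • z))⁻¹ * Φ.nEl (Φ.e i) (Φ.f i) z

theorem sqT_spec {z : ι → F} {i : ℕ} (hi : i < n) (he : polar ⇑Q (Φ.e i) z = 0)
    (hf : polar ⇑Q (Φ.f i) z = 0) (hz : Q z ≠ 0) {y : F} (hy : y ≠ 0) :
    act (Φ.sqT z i y) (Φ.e i) = (y * y)⁻¹ • Φ.e i ∧ act (Φ.sqT z i y) (Φ.f i) = (y * y) • Φ.f i ∧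
      ∀ x, polar ⇑Q (Φ.e i) x = 0 → polar ⇑Q (Φ.f i) x = 0 → act (Φ.sqT z i y) x = x := by
  have hQy : Q (y • z) = y * y * Q z := Q_smul Q y z
  have hyz : Q (y • z) ≠ 0 := by rw [hQy]; exact mul_ne_zero (mul_ne_zero hy hy) hz
  have he' : polar ⇑Q (Φ.e i) (y • z) = 0 := by rw [pl_smul_right, he, mul_zero]
  have hf' : polar ⇑Q (Φ.f i) (y • z) = 0 := by rw [pl_smul_right, hf, mul_zero]
  obtain ⟨a1, a2, a3, a4⟩ := Φ.nEl_spec (Φ.hpair hi) he' hf' hyz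
  obtain ⟨b1, b2, b3, b4⟩ := Φ.nEl_spec (Φ.hpair hi) he hf hz
  rw [map_smul, ← smul_neg] at a3
  have a3' : act (Φ.nEl (Φ.e i) (Φ.f i) (y • z)) z = -z := smul_right_injective _ hy a3
  have key : ∀ u w, act (Φ.nEl (Φ.e i) (Φ.f i) (y • z)) u = w →
      act (Φ.nEl (Φ.e i) (Φ.f i) (y • z))⁻¹ w = u := fun u w h => by
    rw [← h, act_inv_act]
  refine ⟨?_, ?_, fun x h1 h2 => ?_⟩ <;> rw [sqT, act_mul]
  · rw [b1]
    refine key _ _ ?_
    rw [map_smul, a1, smul_smul, hQy]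
    congr 1
    field_simp
  · rw [b2]
    refine key _ _ ?_
    rw [map_smul, a2, smul_smul, hQy]
    congr 1
    field_simp
  · rw [Φ.nEl_perp (Φ.hpair hi) he hf hz h1 h2]
    refine key _ _ ?_
    rw [Φ.nEl_perp (Φ.hpair hi) he' hf' hyz h1 h2, pl_smul_left, hQy, smul_smul]
    congr 2
    field_simp

end Frame

end Cfsg.Agent.OrthPlusMinDegree
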