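import Cfsg.Agent.Lib.OrthPlusMinDegree.Final
import Cfsg.Agent.EqLemmas
/-
The Gram matrix of the n nodes is invertible, so `dim E n ≥ n`; the degree bound.
* Small.node_ne, node_scalar, chain_orth;  edge_indep;  chain_elim;  degree_bound
-/
set_option autoImplicit false
set_option linter.unusedSectionVars false

namespace Cfsg.Agent.OrthPlusMinDegree

open Cfsg Module
open Cfsg.Agent.Orth
open Cfsg.Agent.SUMinDegree (rep_injective)
open QuadraticMap (polar)

/-- Eliminating along a path: the scalars stay in `[1, (q+1)/q]`. -/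
theorem chain_elim {q : ℝ} (hq : 2 ≤ q) {k : ℕ} {c u d : ℕ → ℂ}
    (hg : ∀ i, i + 1 ≤ k → u i * d i * ((q : ℂ) + 1) ^ 2 = q)
    (h0 : c 0 + c 1 * d 0 = 0)
    (hs : ∀ i, i + 2 ≤ k → c i * u i + c (i + 1) + c (i + 2) * d (i + 1) = 0) :
    ∀ i, i + 1 ≤ k → ∃ r : ℝ, 1 ≤ r ∧ q * r ≤ q + 1 ∧ c i = -((r : ℂ) * d i * c (i + 1)) := by
  intro i
  induction i with
  | zero => exact fun _ => ⟨1, le_rfl, by linarith, by push_cast; linear_combination h0⟩
  | succ i ih =>
    intro hi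
    obtain ⟨r, hr1, hr2, hr⟩ := ih (by omega)
    obtain ⟨D, hD⟩ : ∃ D, D = (q + 1) ^ 2 - r * q := ⟨_, rfl⟩
    have hD0 : 0 < D := by rw [hD]; nlinarith
    refine ⟨(q + 1) ^ 2 / D, ?_, ?_, ?_⟩
    · rw [le_div_iff₀ hD0, hD]; nlinarith
    · rw [← mul_div_assoc, div_le_iff₀ hD0, hD]; nlinarith
    · have h1 := hs i (by omega)
      have h2 := hg i (by omega)
      rw [hr] at h1
      have hDc : (D : ℂ) ≠ 0 := by exact_mod_cast hD0.ne'
      have key : c (i + 1) * (D : ℂ) = -(((q : ℂ) + 1) ^ 2 * d (i + 1) * c (i + 2)) := by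
        rw [hD]
        push_cast
        linear_combination ((q : ℂ) + 1) ^ 2 * h1 + (r : ℂ) * c (i + 1) * h2
      refine mul_right_cancel₀ hDc ?_
      rw [key]
      push_cast
      field_simp

variable {ι : Type} [Fintype ι] [DecidableEq ι] {F : Type*} [Field F] [Fintype F]
variable {Q : QuadraticForm F (ι → F)} {n : ℕ} {Φ : Frame Q n}
variable {V : Type} [AddCommGroup V] [Module ℂ V] [FiniteDimensional ℂ V] {ρ : Representation ℂ (OG Q) V}

namespace Frame

theorem Small.node_ne (h : Φ.Small ρ) (hfix : ∀ v : V, (∀ g, ρ g v = v) → v = 0) {i : ℕ} (hi : i + 1 < n) :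
    ∃ x ∈ Φ.E0 ρ, x ≠ 0 ∧ Φ.pr ρ i x = x := by
  by_contra! hcon
  have hzero : ∀ v ∈ Φ.E0 ρ, Φ.pr ρ i v = 0 := fun v hv => by_contra fun hne =>
    hcon _ (Φ.pr_mem ρ hi hv) hne (h.pr_idem hi hv)
  have hn := h.hn
  have hdown : ∀ d m, m + d = i → ∀ v ∈ Φ.E0 ρ, Φ.pr ρ m v = 0 := by
    intro d
    induction d with
    | zero => intro m hm; rw [Nat.add_zero] at hm; rw [hm]; exact hzero
    | succ d ihd =>
      intro m hm v hv
      exact h.pr_zero_left (show m + 2 < n by omega) (ihd (m + 1) (by omega)) hv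
  have hup : ∀ m, i ≤ m → m + 1 < n → ∀ v ∈ Φ.E0 ρ, Φ.pr ρ m v = 0 := by
    intro m hm
    induction m, hm using Nat.le_induction with
    | base => exact fun _ => hzero
    | succ m _ ihm => exact fun hm1 v hv => h.pr_zero_right (show m + 2 < n by omega) (ihm (by omega)) hv
  have hall : ∀ m, m + 1 < n → ∀ v ∈ Φ.E0 ρ, Φ.pr ρ m v = 0 := fun m hm => by
    rcases le_total i m with hle | hle
    · exact hup m hle hm
    · exact hdown (i - m) m (by omega)
  obtain ⟨v, hv⟩ := Φ.exists_wt ρ h.E_ne_bot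
  have hv0 := Φ.wt_mem_E0 ρ hv
  obtain ⟨p, hp⟩ : ∃ p, p + 3 = n := ⟨n - 3, by omega⟩
  have hbz : (Φ.flip).pr ρ (p + 1) v = 0 := by
    refine h.flip.pr_zero_right (show p + 2 < n by omega) (fun w hw => ?_) (by rw [Φ.flip_E0 ρ]; exact hv0)
    rw [Φ.flip_pr ρ (show p + 2 < n by omega)]
    exact hall p (by omega) w (Φ.flip_E0 ρ ▸ hw)
  exact hv.ne (hfix v (h.fixed_of_pr_zero hv0 (fun m hm => hall m hm v hv0) (k := p + 1) (by omega) hbz))

theorem Small.node_scalar (h : Φ.Small ρ) {i : ℕ} (hi : i + 1 < n) {x : V} (hx : x ∈ Φ.E0 ρ) (hx0 : x ≠ 0)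
    (hxx : Φ.pr ρ i x = x) {w : V} (hw : w ∈ Φ.E0 ρ) : ∃ t : ℂ, Φ.pr ρ i w = t • x := by
  obtain ⟨t, ht⟩ := h.pr_rank hi hx hw (by rw [hxx]; exact hx0)
  exact ⟨t, by rw [ht, hxx]⟩

theorem Small.chain_orth [Fintype (OG Q)] (h : Φ.Small ρ) {i m : ℕ} (him : i + 2 ≤ m ∨ m + 2 ≤ i)
    (hi : i + 1 < n) (hm : m + 1 < n) {v : V} (hv : v ∈ Φ.E0 ρ) : Φ.pr ρ i (Φ.pr ρ m v) = 0 := by
  rcases him with him | him
  · exact h.pr_orth_left hi hm rfl (fun w hw => h.Rc_sw him hm one_ne_zero hw) hv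
  · exact h.orth_symm hm h hi rfl
      (fun w hw => h.pr_orth_left hm hi rfl (fun u hu => h.Rc_sw him hi one_ne_zero hu) hw) hv

theorem Small.flip_orth [Fintype (OG Q)] (h : Φ.Small ρ) {k : ℕ} (hk : k + 2 = n) {i : ℕ} (him : i + 2 ≤ k ∨ i = k)
    {v : V} (hv : v ∈ Φ.E0 ρ) :
    Φ.pr ρ i ((Φ.flip).pr ρ k v) = 0 ∧ (Φ.flip).pr ρ k (Φ.pr ρ i v) = 0 := by
  have hi : i + 1 < n := by omega
  have hR : ∀ u ∈ Φ.E ρ n, Φ.Rc ρ i 1 ((Φ.flip).swapVec ρ k u) = (Fintype.card F : ℂ) • Φ.Rc ρ i 1 u := fun u hu => by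
    rcases him with him | rfl
    · exact h.Rc_sw_flip him (by omega) one_ne_zero hu
    · exact h.Rc_sw_bottom hk one_ne_zero hu
  exact ⟨h.pr_orth_left hi (by omega) (Φ.flip_E0 ρ) hR hv,
    h.orth_symm hi h.flip (by omega) (Φ.flip_E0 ρ)
      (fun w hw => h.pr_orth_left hi (by omega) (Φ.flip_E0 ρ) hR hw) hv⟩

/-- A node next to `y` killing it is impossible. -/
theorem Small.no_kill [Fintype (OG Q)] (h : Φ.Small ρ) {i : ℕ} (hi : i + 2 < n) {x y : V} (hx : x ∈ Φ.E0 ρ)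
    (hy : y ∈ Φ.E0 ρ) (hx0 : x ≠ 0) (hy0 : y ≠ 0) (hxx : Φ.pr ρ i x = x) (hyy : Φ.pr ρ (i + 1) y = y)
    (h0 : Φ.pr ρ (i + 1) x = 0) : False := by
  obtain ⟨b, hb⟩ := h.node_scalar (show i + 1 < n by omega) hx hx0 hxx hy
  have he := h.edge hi hx0 hy0 hxx hyy (fun t ht => hy0 (by rw [← hyy, ht, map_smul, h0, smul_zero]))
    (a := 0) hb (by rw [h0, zero_smul])
  simp only [zero_mul] at he
  exact Nat.cast_ne_zero.2 (Fintype.card_ne_zero (α := F)) he.symm

theorem Small.false (h : Φ.Small ρ) (hfix : ∀ v : V, (∀ g, ρ g v = v) → v = 0) : False := by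
  classical
  have := Fintype.ofFinite (OG Q)
  have hn := h.hn
  obtain ⟨p, hp⟩ : ∃ p, p + 4 = n := ⟨n - 4, by omega⟩
  -- the nodes 0..p+2 and the flipped last one
  have hN : ∀ i : ℕ, ∃ x : V, i ≤ p + 2 → x ∈ Φ.E0 ρ ∧ x ≠ 0 ∧ Φ.pr ρ i x = x := fun i => by
    by_cases hi : i ≤ p + 2
    · obtain ⟨x, hx⟩ := h.node_ne hfix (i := i) (by omega)
      exact ⟨x, fun _ => hx⟩
    · exact ⟨0, fun h' => absurd h' hi⟩
  choose α hα using hN
  obtain ⟨β, hβ, hβ0, hββ⟩ := h.flip.node_ne hfix (i := p + 2) (by omega)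
  rw [Φ.flip_E0 ρ] at hβ
  have hflip : ∀ {v : V}, v ∈ Φ.E0 ρ → v ∈ (Φ.flip).E0 ρ := fun hv => by rw [Φ.flip_E0 ρ]; exact hv
  have hM : ∀ i j : ℕ, ∃ t : ℂ, i ≤ p + 2 → j ≤ p + 2 → Φ.pr ρ i (α j) = t • α i := fun i j => by
    by_cases hij : i ≤ p + 2 ∧ j ≤ p + 2
    · obtain ⟨t, ht⟩ := h.node_scalar (show i + 1 < n by omega) (hα i hij.1).1 (hα i hij.1).2.1 (hα i hij.1).2.2
        (hα j hij.2).1
      exact ⟨t, fun _ _ => ht⟩
    · exact ⟨0, fun h1 h2 => absurd ⟨h1, h2⟩ hij⟩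
  choose M hM using hM
  obtain ⟨mb, hmb⟩ := h.flip.node_scalar (show p + 2 + 1 < n by omega) (hflip hβ) hβ0 hββ (hflip (hα (p + 1) (by omega)).1)
  obtain ⟨bm, hbm⟩ := h.node_scalar (show p + 1 + 1 < n by omega) (hα (p + 1) (by omega)).1 (hα (p + 1) (by omega)).2.1
    (hα (p + 1) (by omega)).2.2 hβ
  have horth : ∀ i j, i ≤ p + 2 → j ≤ p + 2 → (i + 2 ≤ j ∨ j + 2 ≤ i) → Φ.pr ρ i (α j) = 0 := fun i j hi hj hij => by
    rw [← (hα j hj).2.2, h.chain_orth hij (by omega) (by omega) (hα j hj).1]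
  have hforth : ∀ i, i ≤ p + 2 → i ≠ p + 1 → Φ.pr ρ i β = 0 ∧ (Φ.flip).pr ρ (p + 2) (α i) = 0 := fun i hi hne => by
    constructor
    · rw [← hββ, (h.flip_orth (k := p + 2) (by omega) (i := i) (by omega) hβ).1]
    · rw [← (hα i hi).2.2, (h.flip_orth (k := p + 2) (by omega) (i := i) (by omega) (hα i hi).1).2]
  have hpc : (Φ.flip).pr ρ (p + 1) = Φ.pr ρ (p + 1) := Φ.flip_pr ρ (by omega)
  obtain ⟨q, hq⟩ : ∃ q : ℝ, q = (Fintype.card F : ℝ) := ⟨_, rfl⟩
  have hqc : (q : ℂ) = (Fintype.card F : ℂ) := by rw [hq]; norm_num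
  -- the edge at the other leaf
  have hedgeb : mb * bm * ((q : ℂ) + 1) ^ 2 = q := by
    rw [hqc]
    refine h.flip.edge (i := p + 1) (by omega) (hα (p + 1) (by omega)).2.1 hβ0 ?_ hββ (fun t ht => ?_) (b := bm) ?_ hmb
    · rw [hpc]; exact (hα (p + 1) (by omega)).2.2
    · refine h.no_kill (i := p + 1) (by omega) (hα _ (by omega)).1 (hα (p + 2) le_rfl).1 (hα _ (by omega)).2.1
        (hα (p + 2) le_rfl).2.1 (hα _ (by omega)).2.2 (hα (p + 2) le_rfl).2.2 ?_
      have ht0 : t ≠ 0 := fun e => hβ0 (by rw [ht, e, zero_smul])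
      have h1 := (hforth (p + 2) le_rfl (by omega)).1
      rw [ht, map_smul] at h1
      exact (smul_eq_zero.1 h1).resolve_left ht0
    · rw [hpc]; exact hbm
  have hedge : ∀ i, i + 1 ≤ p + 2 → M (i + 1) i * M i (i + 1) * ((q : ℂ) + 1) ^ 2 = q := fun i hi => by
    rw [hqc]
    refine h.edge (show i + 2 < n by omega) (hα i (by omega)).2.1 (hα (i + 1) hi).2.1 (hα i (by omega)).2.2
      (hα (i + 1) hi).2.2 (fun t ht => ?_) (hM i (i + 1) (by omega) hi) (hM (i + 1) i hi (by omega))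
    rcases Nat.lt_or_ge i (p + 1) with hlt | hge
    · refine h.no_kill (i := i + 1) (show i + 1 + 2 < n by omega) (hα _ hi).1 (hα (i + 2) (by omega)).1 (hα _ hi).2.1
        (hα (i + 2) (by omega)).2.1 (hα _ hi).2.2 (hα (i + 2) (by omega)).2.2 ?_
      rw [ht, map_smul, horth (i + 2) i (by omega) (by omega) (by omega), smul_zero]
    · obtain rfl : i = p + 1 := by omega
      refine h.flip.no_kill (i := p + 1) (x := α (p + 1)) (y := β) (by omega) (hflip (hα (p + 1) (by omega)).1) (hflip hβ)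
        (hα (p + 1) (by omega)).2.1 hβ0
        (by rw [hpc]; exact (hα (p + 1) (by omega)).2.2) hββ ?_
      have ht0 : t ≠ 0 := fun e => (hα (p + 2) le_rfl).2.1 (by rw [ht, e, zero_smul])
      have h1 := (hforth (p + 2) le_rfl (by omega)).2
      rw [ht, map_smul] at h1
      exact (smul_eq_zero.1 h1).resolve_left ht0
  -- independence
  let w : Fin (p + 3) ⊕ Unit → V := Sum.elim (fun i => α i) fun _ => β
  have hli : LinearIndependent ℂ w := by
    refine Fintype.linearIndependent_iff.2 fun g hg => ?_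
    obtain ⟨c, hc⟩ : ∃ c : ℕ → ℂ, ∀ j : Fin (p + 3), c j = g (Sum.inl j) :=
      ⟨fun j => if hj : j < p + 3 then g (Sum.inl ⟨j, hj⟩) else 0, fun j => dif_pos j.2⟩
    obtain ⟨d, hd⟩ : ∃ d, d = g (Sum.inr ()) := ⟨_, rfl⟩
    have hsum : ∑ j ∈ Finset.range (p + 3), c j • α j + d • β = 0 := by
      rw [← hg, Fintype.sum_sum_type, Finset.sum_range]
      simp only [w, hc, hd, Sum.elim_inl, Sum.elim_inr, Finset.univ_unique, Finset.sum_singleton, PUnit.default_eq_unit]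
    have heq : ∀ i, i ≤ p + 2 → ∀ s : Finset ℕ, (∀ j ∈ s, j ≤ p + 2) → (∀ j, j ≤ p + 2 → j ∉ s → i + 2 ≤ j ∨ j + 2 ≤ i) →
        (∑ j ∈ s, (c j * M i j) • α i) + d • Φ.pr ρ i β = 0 := by
      intro i hi s hs hout
      have h1 := congrArg (Φ.pr ρ i) hsum
      rw [map_zero, map_add, map_sum, map_smul] at h1
      rw [← h1]
      congr 1
      rw [Finset.sum_congr rfl fun j hj => show (c j * M i j) • α i = Φ.pr ρ i (c j • α j) by
        rw [map_smul, hM i j hi (hs j hj), smul_smul]]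
      refine Finset.sum_subset (fun j hj => Finset.mem_range.2 (Nat.lt_succ_of_le (hs j hj))) fun j hj hjs => ?_
      have hj' : j ≤ p + 2 := Nat.lt_succ_iff.1 (Finset.mem_range.1 hj)
      rw [map_smul, horth i j hi hj' (hout j hj' hjs), smul_zero]
    have hdiag : ∀ i, i ≤ p + 2 → M i i = 1 := fun i hi =>
      smul_left_injective ℂ (hα i hi).2.1 (((hM i i hi hi).symm.trans (hα i hi).2.2).trans (one_smul ℂ _).symm)
    -- the end node 0
    have e0 : c 0 + c 1 * M 0 1 = 0 := by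
      have h1 := heq 0 (by omega) {0, 1} (by simp) (fun j _ hj => by simp at hj; omega)
      rw [(hforth 0 (by omega) (by omega)).1, smul_zero, add_zero, Finset.sum_insert (by simp), Finset.sum_singleton,
        ← add_smul, hdiag 0 (by omega), mul_one, smul_eq_zero] at h1
      exact h1.resolve_right (hα 0 (by omega)).2.1
    have es : ∀ i, i + 2 ≤ p + 1 → c i * M (i + 1) i + c (i + 1) + c (i + 2) * M (i + 1) (i + 2) = 0 := fun i hi => by
      have h1 := heq (i + 1) (by omega) {i, i + 1, i + 2} (fun j hj => by simp at hj; omega)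
        (fun j _ hj => by simp at hj; omega)
      rw [(hforth (i + 1) (by omega) (by omega)).1, smul_zero, add_zero, Finset.sum_insert (by simp),
        Finset.sum_insert (by simp), Finset.sum_singleton, ← add_smul, ← add_smul, hdiag (i + 1) (by omega), mul_one,
        smul_eq_zero] at h1
      rw [← add_assoc] at h1
      exact h1.resolve_right (hα (i + 1) (by omega)).2.1
    -- the centre and the two leaves
    have ec : c p * M (p + 1) p + c (p + 1) + c (p + 2) * M (p + 1) (p + 2) + d * bm = 0 := by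
      have h1 := heq (p + 1) (by omega) {p, p + 1, p + 2} (fun j hj => by simp at hj; omega)
        (fun j hj1 hj => by simp at hj; omega)
      rw [hbm, smul_smul, Finset.sum_insert (by simp),
        Finset.sum_insert (by simp), Finset.sum_singleton, ← add_smul, ← add_smul, ← add_smul, hdiag (p + 1) (by omega),
        mul_one, smul_eq_zero] at h1
      rw [← add_assoc (c p * M (p + 1) p)] at h1
      exact h1.resolve_right (hα (p + 1) (by omega)).2.1
    have ea : c (p + 1) * M (p + 2) (p + 1) + c (p + 2) = 0 := by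
      have h1 := heq (p + 2) le_rfl {p + 1, p + 2} (fun j hj => by simp at hj; omega)
        (fun j hj1 hj => by simp at hj; omega)
      rw [(hforth (p + 2) le_rfl (by omega)).1, smul_zero, add_zero, Finset.sum_insert (by simp), Finset.sum_singleton,
        ← add_smul, hdiag (p + 2) le_rfl, mul_one, smul_eq_zero] at h1
      exact h1.resolve_right (hα (p + 2) le_rfl).2.1
    have eb : c (p + 1) * mb + d = 0 := by
      have h1 := congrArg ((Φ.flip).pr ρ (p + 2)) hsum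
      rw [map_zero, map_add, map_sum, map_smul, hββ, Finset.sum_eq_single (p + 1)] at h1
      · rw [map_smul, hmb, smul_smul, ← add_smul, smul_eq_zero] at h1
        exact h1.resolve_right hβ0
      · intro j hj hne
        rw [map_smul, (hforth j (Nat.lt_succ_iff.1 (Finset.mem_range.1 hj)) hne).2, smul_zero]
      · exact fun hh => absurd (Finset.mem_range.2 (by omega)) hh
    have hq2 : (2 : ℝ) ≤ q := by rw [hq]; exact_mod_cast (by have := h.hq; omega : 2 ≤ Fintype.card F)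
    have hel := chain_elim hq2 (k := p + 1) (c := c) (u := fun i => M (i + 1) i) (d := fun i => M i (i + 1))
      (fun i hi => hedge i (by omega)) e0 es
    have hcp : c (p + 1) = 0 := by
      obtain ⟨r, hr1, hr2, hr⟩ := hel p le_rfl
      have g1 := hedge p (by omega)
      have g2 := hedge (p + 1) le_rfl
      have key : c (p + 1) * ((((q + 1) ^ 2 - r * q - 2 * q : ℝ)) : ℂ) = 0 := by
        rw [hr] at ec
        push_cast
        linear_combination ((q : ℂ) + 1) ^ 2 * ec + (r : ℂ) * c (p + 1) * g1 + c (p + 1) * g2 + c (p + 1) * hedgeb -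
          ((q : ℂ) + 1) ^ 2 * M (p + 1) (p + 2) * ea - ((q : ℂ) + 1) ^ 2 * bm * eb
      refine (mul_eq_zero.1 key).resolve_right ?_
      exact_mod_cast ne_of_gt (show (0 : ℝ) < (q + 1) ^ 2 - r * q - 2 * q by nlinarith)
    have hdown : ∀ e i, i + e = p + 1 → c i = 0 := by
      intro e
      induction e with
      | zero => intro i hi; rw [show i = p + 1 by omega]; exact hcp
      | succ e ihe =>
        intro i hi
        obtain ⟨r, -, -, hr⟩ := hel i (by omega)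
        rw [hr, ihe (i + 1) (by omega), mul_zero, neg_zero]
    rintro (⟨j, hj⟩ | ⟨⟩)
    · rw [← hc ⟨j, hj⟩]
      rcases Nat.lt_or_ge j (p + 2) with hlt | hge
      · exact hdown (p + 1 - j) j (by omega)
      · obtain rfl : j = p + 2 := by omega
        show c (p + 2) = 0
        rw [hcp, zero_mul, zero_add] at ea
        exact ea
    · rw [hcp, zero_mul, zero_add] at eb
      rw [← hd]; exact eb
  have h1 := finrank_span_eq_card hli
  have h2 : Submodule.span ℂ (Set.range w) ≤ Φ.E ρ n := by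
    rw [Submodule.span_le]
    rintro _ ⟨l | l, rfl⟩
    · exact ((Φ.mem_E0 ρ).1 (hα l (Nat.lt_succ_iff.1 l.2)).1).1
    · exact ((Φ.mem_E0 ρ).1 hβ).1
  have h3 := Submodule.finrank_mono h2
  rw [h1, Fintype.card_sum, Fintype.card_fin, Fintype.card_unit] at h3
  have h4 := h.bound_of_fix
  omega

theorem fixed_of_E_top (hn : 4 ≤ n) (hq : 3 < Fintype.card F) (h : Φ.E ρ 1 = ⊤) (g : OG Q) (v : V) : ρ g v = v := by
  have hn0 : 0 < n := by omega
  have hn1 : 1 < n := by omega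
  have he : ∀ (u : V) x, polar ⇑Q (Φ.e 0) x = 0 → ρ (Φ.em (Φ.e 0) x) u = u := fun u x hx =>
    (Φ.mem_E ρ).1 (h ▸ Submodule.mem_top : u ∈ Φ.E ρ 1) 0 one_pos x fun l hl => by
      rwa [Nat.le_zero.1 hl]
  obtain ⟨a1, -, -, -⟩ := Φ.nEl_spec (Φ.hpair hn0) (Φ.pezz hn0 hn1 (by omega)) (Φ.pfzz hn0 hn1 (by omega)) (Φ.qzz_ne hn1)
  obtain ⟨N, hN⟩ : ∃ N, N = Φ.nEl (Φ.e 0) (Φ.f 0) (Φ.zz 1) := ⟨_, rfl⟩
  rw [← hN, Φ.qzz hn1] at a1
  obtain ⟨H, hH⟩ : ∃ H : Subgroup (OG Q), ∀ g, g ∈ H ↔ ∀ u, ρ g u = u := ⟨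
    { carrier := {g : OG Q | ∀ u, ρ g u = u}
      one_mem' := fun u => by rw [map_one, Module.End.one_apply]
      mul_mem' := fun {a b} (ha : ∀ u, ρ a u = u) (hb : ∀ u, ρ b u = u) u => by
        rw [map_mul, Module.End.mul_apply, hb, ha]
      inv_mem' := fun {a} (ha : ∀ u, ρ a u = u) u => by
        conv_lhs => rw [← ha u, ← Module.End.mul_apply, ← map_mul, inv_mul_cancel, map_one, Module.End.one_apply] },
    fun g => Iff.rfl⟩
  have hcl : eichPair Q (Φ.e 0) (Φ.f 0) ≤ Subgroup.map (Omega F ⇑Q).subtype H := by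
    rw [eichPair, Subgroup.closure_le]
    rintro _ ⟨x, hx, hor⟩
    obtain ⟨hx1, hx2⟩ := mem_perp.1 hx
    rcases hor with rfl | rfl
    · exact ⟨Φ.em (Φ.e 0) x, (hH _).2 fun u => he u x hx1, rfl⟩
    · refine ⟨Φ.em (Φ.f 0) x, (hH _).2 fun u => ?_, rfl⟩
      obtain ⟨w, hw⟩ : ∃ w, w = (-1 : F) • act N⁻¹ x := ⟨_, rfl⟩
      have hwe : polar ⇑Q (Φ.e 0) w = 0 := by
        rw [hw, pl_smul_right, ← act_polar N, a1, act_act_inv, pl_smul_left, hx2, mul_zero, mul_zero]
      have h3 : Φ.em (Φ.f 0) x = N * Φ.em (Φ.e 0) w * N⁻¹ := by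
        rw [Φ.mul_em, mul_inv_cancel_right, a1, hw, map_smul, act_act_inv, Φ.em_smul_left, smul_smul,
          neg_one_mul, neg_neg, one_smul]
      rw [h3, map_mul, map_mul, Module.End.mul_apply, Module.End.mul_apply, he _ w hwe, ← Module.End.mul_apply,
        ← map_mul, mul_inv_cancel, map_one, Module.End.one_apply]
  have hG := omega_eq_eichPair (Good.of_card Φ.nd (.inl (by omega))) (by have := Φ.hn; omega)
    (.inr Φ.hn) (Φ.hpair Φ.n_pos)
  have hmem : (g : IsoGrp Q) ∈ eichPair Q (Φ.e 0) (Φ.f 0) := by rw [← hG]; exact g.2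
  obtain ⟨g', hg', hgg⟩ := hcl hmem
  obtain rfl : g' = g := Subtype.ext hgg
  exact (hH _).1 hg' v

end Frame

/-- The bound for representations without invariant vectors. -/
theorem degree_bound [Nontrivial V] (Ψ : Frame Q n) (hn : 4 ≤ n) (hq : 3 < Fintype.card F)
    (hfix : ∀ v : V, (∀ g, ρ g v = v) → v = 0) :
    (Fintype.card F ^ n - 1) * (Fintype.card F ^ (n - 1) + Fintype.card F) ≤
      (Fintype.card F ^ 2 - 1) * finrank ℂ V := by
  by_contra hlt
  push Not at hlt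
  obtain ⟨v0, hv0⟩ := exists_ne (0 : V)
  exact (Frame.Small.mk hn hq
    (fun h => hv0 (hfix v0 fun g => Frame.fixed_of_E_top hn hq h g v0)) hlt : Ψ.Small ρ).false hfix

end Cfsg.Agent.OrthPlusMinDegree
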