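import Cfsg.Agent.Lib.OrthPlusMinDegree.Chain
import Cfsg.Agent.EqLemmas
/-
A small representation has a vector fixed by a maximal unipotent subgroup.
* em_split: em (u + u') w for non-singular w;  S3, K3, H3
* finrank_K3_le, kill (translates of H3 are independent if E n = ⊥);  Small.E_ne_bot
-/
set_option autoImplicit false
set_option linter.unusedSectionVars false

namespace Cfsg.Agent.OrthPlusMinDegree

open Cfsg Module
open Cfsg.Agent.Orth
open Cfsg.Agent.SUMinDegree (rep_injective)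
open QuadraticMap (polar)

variable {ι : Type} [Fintype ι] [DecidableEq ι] {F : Type*} [Field F] [Fintype F]
variable {Q : QuadraticForm F (ι → F)} {n : ℕ} (Φ : Frame Q n)
variable {V : Type} [AddCommGroup V] [Module ℂ V] [FiniteDimensional ℂ V] (ρ : Representation ℂ (OG Q) V)

namespace Frame

theorem em_split {u u' w : ι → F} (hu : Q u = 0) (hu' : Q u' = 0) (huu : polar ⇑Q u u' = 0)
    (h : polar ⇑Q u w = 0) (h' : polar ⇑Q u' w = 0) :
    Φ.em (u + u') w = Φ.em u ((-Q w) • u') * Φ.em u w * Φ.em u' w := by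
  refine OG.ext_act fun x => ?_
  have hsum : Q (u + u') = 0 := by rw [Q_add, hu, hu', huu]; ring
  rw [act_mul, act_mul, Φ.act_em hu' h', Φ.act_em hu h,
    Φ.act_em hu (by rw [pl_smul_right, huu, mul_zero]),
    Φ.act_em hsum (by rw [pl_add_left, h, h', add_zero])]
  simp only [pl_add_left, pl_add_right, pl_sub_right, pl_smul_left, pl_smul_right, Q_smul, pl_self, hu, hu',
    huu, h, h', pl_comm Q u' u, pl_comm Q w u, pl_comm Q w u']
  module

/-- The span of three vectors of the frame. -/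
def S3 (k : ℕ) : Submodule F (ι → F) := Submodule.span F {Φ.e k, Φ.e (k + 1), Φ.e (k + 2)}

theorem S3_iso {k : ℕ} (hk : k + 2 < n) {u v : ι → F} (hu : u ∈ Φ.S3 k) (hv : v ∈ Φ.S3 k) :
    polar ⇑Q u v = 0 := by
  have hb : ∀ x ∈ ({Φ.e k, Φ.e (k + 1), Φ.e (k + 2)} : Set (ι → F)), ∀ j, j < n →
      polar ⇑Q (Φ.e j) x = 0 := by
    intro x hx j hj
    simp only [Set.mem_insert_iff, Set.mem_singleton_iff] at hx
    rcases hx with rfl | rfl | rfl <;> exact Φ.pee hj (by omega)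
  have h1 : ∀ j, j < n → polar ⇑Q (Φ.e j) v = 0 := fun j hj => by
    induction hv using Submodule.span_induction with
    | mem x hx => exact hb x hx j hj
    | zero => exact pl_zero_right Q _
    | add a b _ _ ha hb => rw [pl_add_right, ha, hb, add_zero]
    | smul c a _ ha => rw [pl_smul_right, ha, mul_zero]
  induction hu using Submodule.span_induction with
  | mem x hx =>
    simp only [Set.mem_insert_iff, Set.mem_singleton_iff] at hx
    rcases hx with rfl | rfl | rfl <;> exact h1 _ (by omega)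
  | zero => exact pl_zero_left Q _
  | add a b _ _ ha hb => rw [pl_add_left, ha, hb, add_zero]
  | smul c a _ ha => rw [pl_smul_left, ha, mul_zero]

theorem S3_Q {k : ℕ} (hk : k + 2 < n) {u : ι → F} (hu : u ∈ Φ.S3 k) : Q u = 0 := by
  induction hu using Submodule.span_induction with
  | mem x hx =>
    simp only [Set.mem_insert_iff, Set.mem_singleton_iff] at hx
    rcases hx with rfl | rfl | rfl <;> exact Φ.qe _ (by omega)
  | zero => exact QuadraticMap.map_zero Q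
  | add a b ha hb h1 h2 => rw [Q_add, h1, h2, Φ.S3_iso hk ha hb, zero_add, zero_add]
  | smul c a _ ha => rw [Q_smul, ha, mul_zero]

theorem e_mem_S3 {k i : ℕ} (h1 : k ≤ i) (h2 : i ≤ k + 2) : Φ.e i ∈ Φ.S3 k := by
  refine Submodule.subset_span ?_
  obtain rfl | rfl | rfl : i = k ∨ i = k + 1 ∨ i = k + 2 := by omega
  all_goals simp

/-- The fixed space of the radical attached to `S3`, inside `E k`. -/
noncomputable def K3 (k : ℕ) : Submodule ℂ V :=
  Φ.E ρ k ⊓ ⨅ (u : ι → F) (_ : u ∈ Φ.S3 k) (x : ι → F) (_ : x ∈ Φ.S3 k),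
    LinearMap.ker (ρ (Φ.em u x) - LinearMap.id)

/-- The part of `K3` fixed by the radical at `e_k`. -/
noncomputable def H3 (k : ℕ) : Submodule ℂ V := Φ.K3 ρ k ⊓ Φ.E ρ (k + 1)

theorem mem_K3 {k : ℕ} {v : V} : v ∈ Φ.K3 ρ k ↔ v ∈ Φ.E ρ k ∧
    ∀ u ∈ Φ.S3 k, ∀ x ∈ Φ.S3 k, ρ (Φ.em u x) v = v := by
  simp [K3, sub_eq_zero]

/-- Generators suffice. -/
theorem mem_K3_of_gens {k : ℕ} (hk : k + 2 < n) {v : V} (hv : v ∈ Φ.E ρ k)
    (hij : ∀ i j, k ≤ i → i < j → j ≤ k + 2 → ∀ a : F, ρ (Φ.em (Φ.e i) (a • Φ.e j)) v = v) :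
    v ∈ Φ.K3 ρ k := by
  have hfix : ∀ {u a b : ι → F}, u ∈ Φ.S3 k → a ∈ Φ.S3 k → b ∈ Φ.S3 k →
      ρ (Φ.em u a) v = v → ρ (Φ.em u b) v = v → ρ (Φ.em u (a + b)) v = v := by
    intro u a b hu ha hb h1 h2
    rw [Φ.em_add (Φ.S3_Q hk hu) (Φ.S3_iso hk hu ha) (Φ.S3_iso hk hu hb), map_mul,
      Module.End.mul_apply, h2, h1]
  -- basis vectors on the left
  have hbase : ∀ i, k ≤ i → i ≤ k + 2 → ∀ x ∈ Φ.S3 k, ρ (Φ.em (Φ.e i) x) v = v := by
    intro i hi1 hi2 x hx
    have ha := hx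
    revert ha
    obtain ⟨a, rfl⟩ : ∃ a, a = x := ⟨x, rfl⟩
    intro ha
    · clear hx
      obtain ⟨c, hc⟩ : ∃ c : F, c = 1 := ⟨1, rfl⟩
      suffices h : ∀ c : F, ρ (Φ.em (Φ.e i) (c • a)) v = v by simpa [hc] using h c
      induction ha using Submodule.span_induction with
      | mem y hy =>
        intro c
        obtain ⟨j, hj1, hj2, rfl⟩ : ∃ j, k ≤ j ∧ j ≤ k + 2 ∧ y = Φ.e j := by
          simp only [Set.mem_insert_iff, Set.mem_singleton_iff] at hy
          rcases hy with rfl | rfl | rfl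
          exacts [⟨k, by omega, by omega, rfl⟩, ⟨k + 1, by omega, by omega, rfl⟩,
            ⟨k + 2, by omega, by omega, rfl⟩]
        rcases lt_trichotomy i j with hlt | rfl | hgt
        · exact hij i j hi1 hlt hj2 c
        · have h1 := Φ.em_add_self (Φ.qe i (by omega)) (pl_zero_right Q (Φ.e i)) c
          rw [zero_add] at h1
          rw [h1, Φ.em_zero, map_one, Module.End.one_apply]
        · rw [Φ.em_comm (Φ.qe i (by omega)) (by rw [Q_smul, Φ.qe j (by omega), mul_zero])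
            (by rw [pl_smul_right, Φ.pee (by omega) (by omega), mul_zero]), Φ.em_smul_left, smul_neg, ← neg_smul]
          exact hij j i hj1 hgt hi2 (-c)
      | zero => intro c; rw [smul_zero, Φ.em_zero, map_one, Module.End.one_apply]
      | add y y' hy hy' h1 h2 =>
        intro c
        rw [smul_add]
        exact hfix (Φ.e_mem_S3 hi1 hi2) (Submodule.smul_mem _ c hy)
          (Submodule.smul_mem _ c hy') (h1 c) (h2 c)
      | smul d y _ h1 => intro c; rw [smul_smul]; exact h1 (c * d)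
  refine (Φ.mem_K3 ρ).2 ⟨hv, fun u hu => ?_⟩
  suffices h : ∀ c : F, ∀ x ∈ Φ.S3 k, ρ (Φ.em (c • u) x) v = v by
    intro x hx; simpa using h 1 x hx
  induction hu using Submodule.span_induction with
  | mem y hy =>
    intro c x hx
    rw [Φ.em_smul_left]
    simp only [Set.mem_insert_iff, Set.mem_singleton_iff] at hy
    rcases hy with rfl | rfl | rfl <;>
      exact hbase _ (by omega) (by omega) _ (Submodule.smul_mem _ c hx)
  | zero => intro c x _; rw [Φ.em_smul_left]; rw [show Φ.em (0 : ι → F) (c • x) = 1 by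
      rw [← zero_smul F (Φ.e k), Φ.em_smul_left, zero_smul, Φ.em_zero]]; rw [map_one, Module.End.one_apply]
  | add y y' hy hy' h1 h2 =>
    intro c x hx
    have hcy := Submodule.smul_mem _ c hy
    have hcy' := Submodule.smul_mem _ c hy'
    rw [smul_add, Φ.em_split (Φ.S3_Q hk hcy) (Φ.S3_Q hk hcy') (Φ.S3_iso hk hcy hcy') (Φ.S3_iso hk hcy hx)
      (Φ.S3_iso hk hcy' hx), map_mul, map_mul, Module.End.mul_apply, Module.End.mul_apply, h2 c x hx,
      h1 c x hx, h1 c _ (Submodule.smul_mem _ _ hcy')]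
  | smul d y _ h1 => intro c x hx; rw [smul_smul]; exact h1 (c * d) x hx

/-- An element normalising the configuration. -/
theorem mapsTo_K3 {k : ℕ} {g : OG Q} (hg : ∀ j < k, act g (Φ.e j) = Φ.e j)
    (hS : ∀ u ∈ Φ.S3 k, act g⁻¹ u ∈ Φ.S3 k) {v : V} (hv : v ∈ Φ.K3 ρ k) :
    ρ g v ∈ Φ.K3 ρ k := by
  rw [mem_K3] at hv ⊢
  refine ⟨Φ.mapsTo_E_fix ρ hg hv.1, fun u hu x hx => ?_⟩
  have h1 : Φ.em u x * g = g * Φ.em (act g⁻¹ u) (act g⁻¹ x) := by
    rw [Φ.mul_em, act_act_inv, act_act_inv]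
  rw [← Module.End.mul_apply, ← map_mul, h1, map_mul, Module.End.mul_apply, hv.2 _ (hS u hu) _ (hS x hx)]

variable {Φ ρ}

theorem Small.finrank_K3_le (h : Φ.Small ρ) {k : ℕ} (hk : k + 3 = n) :
    finrank ℂ (Φ.K3 ρ k) + 1 ≤ finrank ℂ (Φ.H3 ρ k) + Fintype.card F ^ 2 := by
  classical
  have hk' : k < n := by omega
  have := Fintype.ofFinite (Φ.W k)
  have hW : ∀ p : F × F, p.1 • Φ.e (k + 1) + p.2 • Φ.e (k + 2) ∈ Φ.W k := fun p =>
    add_mem (Submodule.smul_mem _ _ (e_mem_W (by omega) (by omega)))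
      (Submodule.smul_mem _ _ (e_mem_W (by omega) (by omega)))
  have hne : ∀ p : {p : F × F // p ≠ 0}, p.1.1 • Φ.e (k + 1) + p.1.2 • Φ.e (k + 2) ≠ 0 := by
    rintro ⟨⟨a, b⟩, hp⟩ h0
    have h1 := congrArg (polar ⇑Q (Φ.f (k + 1))) h0
    have h2 := congrArg (polar ⇑Q (Φ.f (k + 2))) h0
    simp only [pl_add_right, pl_smul_right, pl_zero_right, Φ.pfe (show k + 1 < n by omega),
      Φ.pfe (show k + 2 < n by omega), Φ.pnfe (show k + 1 < n by omega) (show k + 2 < n by omega) (by omega),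
      Φ.pnfe (show k + 2 < n by omega) (show k + 1 < n by omega) (by omega), mul_one, mul_zero, add_zero,
      zero_add] at h1 h2
    exact hp (Prod.ext h1 h2)
  let f : Φ.K3 ρ k →ₗ[ℂ] ((p : {p : F × F // p ≠ 0}) → Φ.M ρ k (p.1.1 • Φ.e (k + 1) + p.1.2 • Φ.e (k + 2))) :=
    LinearMap.pi fun _ => (Φ.pM ρ k _).restrict fun u hu => Φ.pM_mem ρ hk' _ ((Φ.mem_K3 ρ).1 hu).1
  have hker : ∀ u ∈ LinearMap.ker f, (u : V) ∈ Φ.H3 ρ k := by
    intro u hu
    refine ⟨u.2, ?_⟩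
    obtain ⟨huE, huK⟩ := (Φ.mem_K3 ρ).1 u.2
    rw [← Φ.sum_pM ρ hk' (u : V), Finset.sum_eq_single (0 : Φ.W k)]
    · rw [← Φ.M_zero ρ hk']
      exact Φ.pM_mem ρ hk' (0 : ι → F) huE
    · intro v _ hv
      by_contra hcomp
      have hz : ∀ y ∈ Φ.S3 k, y ∈ Φ.W k → polar ⇑Q v.1 y = 0 := fun y hy hyW =>
        psi_separates fun c => by
          by_contra hc
          refine hcomp (Φ.pM_eq_zero ρ hk' (x := ⟨c • y, Submodule.smul_mem _ c hyW⟩) (c := 1)
            ((huK _ (Φ.e_mem_S3 le_rfl (by omega)) _ (Submodule.smul_mem _ c hy)).trans (one_smul ℂ _).symm) ?_)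
          simpa only [pl_smul_right, mul_zero, AddChar.map_zero_eq_one] using hc
      obtain ⟨a, ha⟩ : ∃ a, a = polar ⇑Q (Φ.f (k + 1)) v.1 := ⟨_, rfl⟩
      obtain ⟨b, hb⟩ : ∃ b, b = polar ⇑Q (Φ.f (k + 2)) v.1 := ⟨_, rfl⟩
      have he1 := hz _ (Φ.e_mem_S3 (i := k + 1) (by omega) (by omega))
        (e_mem_W (by omega) (by omega))
      have he2 := hz _ (Φ.e_mem_S3 (i := k + 2) (by omega) (by omega))
        (e_mem_W (by omega) (by omega))
      rw [pl_comm] at he1 he2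
      have hv1 := W_coords v.2
      have hv2 := W_coords (Φ.projW_mem (k := k + 1) (by omega) v.1)
      have hp1 : polar ⇑Q (Φ.e (k + 2)) (Φ.projW (k + 1) v.1) = 0 := by
        rw [hv1, pl_add_right, pl_add_right, pl_smul_right, pl_smul_right,
          Φ.pee (show k + 2 < n by omega) (by omega), Φ.pnef _ _ (show k + 2 < n by omega) (show k + 1 < n by omega) (by omega),
          mul_zero, mul_zero, zero_add, zero_add] at he2
        exact he2
      have hp2 : polar ⇑Q (Φ.f (k + 2)) (Φ.projW (k + 1) v.1) = b := by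
        rw [hb]
        conv_rhs => rw [hv1]
        rw [pl_add_right, pl_add_right, pl_smul_right, pl_smul_right,
          Φ.pnfe (show k + 2 < n by omega) (show k + 1 < n by omega) (by omega),
          Φ.pff (show k + 2 < n by omega) (show k + 1 < n by omega), mul_zero, mul_zero, zero_add, zero_add]
      rw [hp1, hp2, zero_smul, add_zero] at hv2
      have hc : Φ.projW (k + 1 + 1) (Φ.projW (k + 1) v.1) = 0 := Φ.W_bot (by
        rw [show n - 1 = k + 1 + 1 by omega]; exact Φ.projW_mem (by omega) _)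
      rw [hc, add_zero] at hv2
      rw [he1, zero_smul, add_zero, ← ha, hv2] at hv1
      have hab : (a, b) ≠ (0 : F × F) := fun h0 => hv (Subtype.ext (by
        simp only [Prod.mk_eq_zero] at h0
        rw [hv1, h0.1, h0.2]; simp))
      have := congrArg Subtype.val (congrFun (LinearMap.mem_ker.1 hu) ⟨(a, b), hab⟩)
      exact hcomp (by rw [hv1]; exact this)
    · exact fun hh => absurd (Finset.mem_univ _) hh
  have h1 : finrank ℂ (LinearMap.ker f) ≤ finrank ℂ (Φ.H3 ρ k) :=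
    LinearMap.finrank_le_finrank_of_injective
      (f := ((Φ.K3 ρ k).subtype ∘ₗ (LinearMap.ker f).subtype).codRestrict (Φ.H3 ρ k) fun u => hker u.1 u.2)
      fun a b hab => by
        have h1 : ((a : Φ.K3 ρ k) : V) = ((b : Φ.K3 ρ k) : V) := congrArg (fun x : Φ.H3 ρ k => (x : V)) hab
        exact Subtype.ext (Subtype.ext h1)
  have h2 := LinearMap.finrank_range_add_finrank_ker f
  have h3 := Submodule.finrank_le (LinearMap.range f)
  have hb : finrank ℂ ((p : {p : F × F // p ≠ 0}) → Φ.M ρ k (p.1.1 • Φ.e (k + 1) + p.1.2 • Φ.e (k + 2))) ≤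
      Fintype.card F ^ 2 - 1 := by
    rw [Module.finrank_pi_fintype]
    refine le_trans (Finset.sum_le_sum (g := fun _ => 1) fun p _ => (h.thin hk' (hW p.1) (hne p)).1) ?_
    rw [Finset.sum_const, smul_eq_mul, mul_one, Finset.card_univ, Fintype.card_subtype_compl,
      Fintype.card_prod, Fintype.card_subtype_eq, sq]
  have hq : 1 ≤ Fintype.card F ^ 2 := Nat.one_le_pow _ _ Fintype.card_pos
  omega

theorem Small.two_le_H3 (h : Φ.Small ρ) {k : ℕ} (hk : k + 3 = n) : 2 ≤ finrank ℂ (Φ.H3 ρ k) := by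
  classical
  have hk1 : k + 1 < n := by omega
  have hk2 : k + 2 < n := by omega
  have := Fintype.ofFinite (Φ.W (k + 1))
  obtain ⟨l, hl0, hl⟩ := exists_scalar h.hq
  have hw : ∀ a : F, a • Φ.e (k + 2) ∈ Φ.W (k + 1) := fun a =>
    Submodule.smul_mem _ a (e_mem_W hk2 (Nat.lt_succ_self _))
  have hne : ∀ a : F, a ≠ 0 → a • Φ.e (k + 2) ≠ 0 := fun a ha => smul_ne_zero ha (Φ.hpair hk2).ne_zero
  have hmem : ∀ a : F, a ≠ 0 → Φ.M ρ (k + 1) (a • Φ.e (k + 2)) ≤ Φ.H3 ρ k := by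
    intro a ha u hu
    have huE := hu.1
    refine ⟨Φ.mem_K3_of_gens ρ hk2 (Φ.E_anti ρ (Nat.le_succ k) huE) ?_, huE⟩
    intro i j hi hij hj b
    rcases eq_or_lt_of_le hi with rfl | hi'
    · exact (Φ.mem_E ρ).1 huE k (Nat.lt_succ_self k) _ fun l hl => by
        rw [pl_smul_right, Φ.pee (by omega) (by omega), mul_zero]
    · obtain ⟨rfl, rfl⟩ : i = k + 1 ∧ j = k + 2 := by omega
      rw [((Φ.mem_M ρ).1 hu).2 _ (hw b), pl_smul_left, pl_smul_right, Φ.pee hk2 hk2, mul_zero, mul_zero,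
        AddChar.map_zero_eq_one, one_smul]
  have hfull : ∀ a : F, a ≠ 0 → Φ.M ρ (k + 1) (a • Φ.e (k + 2)) ≠ ⊥ := fun a ha =>
    Submodule.one_le_finrank_iff.1
      (h.full (by omega) (hw a) (hne a ha) (by rw [Q_smul, Φ.qe _ hk2, mul_zero])).ge
  obtain ⟨x, hx, hx0⟩ := Submodule.exists_mem_ne_zero_of_ne_bot (hfull 1 one_ne_zero)
  obtain ⟨y, hy, hy0⟩ := Submodule.exists_mem_ne_zero_of_ne_bot (hfull l hl0)
  have hne' : (⟨(1 : F) • Φ.e (k + 2), hw 1⟩ : Φ.W (k + 1)) ≠ ⟨l • Φ.e (k + 2), hw l⟩ := fun he => by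
    have := smul_left_injective F (Φ.hpair hk2).ne_zero (congrArg Subtype.val he)
    exact hl (by rw [← this, mul_one])
  have hli : LinearIndependent ℂ ![(⟨x, hmem 1 one_ne_zero hx⟩ : Φ.H3 ρ k), ⟨y, hmem l hl0 hy⟩] := by
    rw [LinearIndependent.pair_iff]
    intro s t hst
    have h1 := congrArg (Φ.pM ρ (k + 1) ((1 : F) • Φ.e (k + 2))) (congrArg Subtype.val hst)
    simp only [Submodule.coe_add, Submodule.coe_smul, map_add, map_smul, Submodule.coe_zero, map_zero,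
      Φ.pM_self ρ hk1 hx, Φ.pM_other ρ hk1 hne' hy, smul_zero, add_zero, smul_eq_zero, hx0, or_false] at h1
    subst h1
    have h2 := congrArg Subtype.val hst
    simp [hy0] at h2
    exact ⟨rfl, h2⟩
  simpa using hli.fintype_card_le_finrank

/-- The translation moving `e_k` to `e_k + p`. -/
noncomputable def transl (Φ : Frame Q n) (k : ℕ) (p : F × F) : OG Q :=
  Φ.em (Φ.f k) (p.1 • Φ.e (k + 1) + p.2 • Φ.e (k + 2))

theorem transl_spec {k : ℕ} (hk : k + 2 < n) (p : F × F) :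
    ∀ i, i < n → act (Φ.transl k p) (Φ.e i) = if i = k then Φ.e k + (p.1 • Φ.e (k + 1) + p.2 • Φ.e (k + 2)) else Φ.e i := by
  have hk' : k < n := by omega
  obtain ⟨pp, hpp⟩ : ∃ pp, pp = p.1 • Φ.e (k + 1) + p.2 • Φ.e (k + 2) := ⟨_, rfl⟩
  have h1 : polar ⇑Q (Φ.f k) pp = 0 := by
    rw [hpp, pl_add_right, pl_smul_right, pl_smul_right, Φ.pnfe hk' (by omega) (by omega),
      Φ.pnfe hk' (by omega) (by omega), mul_zero, mul_zero, add_zero]
  have hS : pp ∈ Φ.S3 k := hpp ▸ add_mem (Submodule.smul_mem _ _ (Φ.e_mem_S3 (by omega) (by omega)))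
    (Submodule.smul_mem _ _ (Φ.e_mem_S3 (by omega) (by omega)))
  have h2 : ∀ i, i < n → polar ⇑Q pp (Φ.e i) = 0 := fun i hi => by
    rw [hpp, pl_add_left, pl_smul_left, pl_smul_left, Φ.pee (by omega) hi, Φ.pee (by omega) hi, mul_zero,
      mul_zero, add_zero]
  intro i hi
  rw [transl, ← hpp, Φ.act_em (Φ.qf k hk') h1, h2 i hi, Φ.S3_Q hk hS]
  split_ifs with hik
  · subst hik
    rw [Φ.pfe hi]
    module
  · rw [Φ.pnfe hk' hi (Ne.symm hik)]
    module

theorem transl_add {k : ℕ} (hk : k + 2 < n) (p p' : F × F) :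
    Φ.transl k (p + p') = Φ.transl k p * Φ.transl k p' := by
  have hk' : k < n := by omega
  have h : ∀ p : F × F, polar ⇑Q (Φ.f k) (p.1 • Φ.e (k + 1) + p.2 • Φ.e (k + 2)) = 0 := fun p => by
    rw [pl_add_right, pl_smul_right, pl_smul_right, Φ.pnfe hk' (by omega) (by omega),
      Φ.pnfe hk' (by omega) (by omega), mul_zero, mul_zero, add_zero]
  rw [transl, transl, transl, ← Φ.em_add (Φ.qf k hk') (h p) (h p')]
  congr 1
  simp only [Prod.fst_add, Prod.snd_add]
  module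

theorem transl_zero (k : ℕ) : Φ.transl k 0 = 1 := by
  simp [transl, Φ.em_zero]

theorem transl_mapsTo {k : ℕ} (hk : k + 2 < n) (p : F × F) {v : V} (hv : v ∈ Φ.K3 ρ k) :
    ρ (Φ.transl k p) v ∈ Φ.K3 ρ k := by
  refine Φ.mapsTo_K3 ρ (fun j hj => by rw [transl_spec hk p j (by omega), if_neg (by omega)]) ?_ hv
  have hinv : (Φ.transl k p)⁻¹ = Φ.transl k (-p) := by
    refine inv_eq_of_mul_eq_one_right ?_
    rw [← transl_add hk, add_neg_cancel, transl_zero]
  intro u hu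
  rw [hinv]
  induction hu using Submodule.span_induction with
  | mem x hx =>
    simp only [Set.mem_insert_iff, Set.mem_singleton_iff] at hx
    rcases hx with rfl | rfl | rfl <;> rw [transl_spec hk (-p) _ (by omega)]
    · rw [if_pos rfl]
      exact add_mem (Φ.e_mem_S3 le_rfl (by omega)) (add_mem
        (Submodule.smul_mem _ _ (Φ.e_mem_S3 (by omega) (by omega)))
        (Submodule.smul_mem _ _ (Φ.e_mem_S3 (by omega) (by omega))))
    · rw [if_neg (by omega)]; exact Φ.e_mem_S3 (by omega) (by omega)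
    · rw [if_neg (by omega)]; exact Φ.e_mem_S3 (by omega) (by omega)
  | zero => rw [map_zero]; exact zero_mem _
  | add a b _ _ ha hb => rw [map_add]; exact add_mem ha hb
  | smul c a _ ha => rw [map_smul]; exact Submodule.smul_mem _ c ha

theorem Small.kill (h : Φ.Small ρ) {k : ℕ} (hk : k + 3 = n) (hbot : Φ.E ρ n = ⊥) [Fintype (Φ.W k)]
    {u : V} (hu : u ∈ Φ.H3 ρ k) {p : F × F} (hp : p ≠ 0) : Φ.pM ρ k 0 (ρ (Φ.transl k p) u) = 0 := by
  classical
  have hk0 : k < n := by omega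
  have hk1 : k + 1 < n := by omega
  have hk2 : k + 2 < n := by omega
  obtain ⟨w, hw⟩ : ∃ w, w = Φ.pM ρ k 0 (ρ (Φ.transl k p) u) := ⟨_, rfl⟩
  rw [← hw]
  obtain ⟨pp, hpp⟩ : ∃ pp, pp = p.1 • Φ.e (k + 1) + p.2 • Φ.e (k + 2) := ⟨_, rfl⟩
  have hppS : pp ∈ Φ.S3 k := hpp ▸ add_mem (Submodule.smul_mem _ _ (Φ.e_mem_S3 (by omega) (by omega)))
    (Submodule.smul_mem _ _ (Φ.e_mem_S3 (by omega) (by omega)))
  have hppW : pp ∈ Φ.W k := hpp ▸ add_mem (Submodule.smul_mem _ _ (e_mem_W hk1 (by omega)))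
    (Submodule.smul_mem _ _ (e_mem_W hk2 (by omega)))
  have hKw : ρ (Φ.transl k p) u ∈ Φ.K3 ρ k := transl_mapsTo hk2 p hu.1
  have hwE : w ∈ Φ.E ρ (k + 1) := by
    rw [hw, ← Φ.M_zero ρ hk0]
    exact Φ.pM_mem ρ hk0 (0 : ι → F) ((Φ.mem_K3 ρ).1 hKw).1
  -- `w` is fixed by the generators with indices above `k`
  have hcomm : ∀ g : OG Q, Φ.Diag g k → act g (Φ.e k) = Φ.e k → ρ g (ρ (Φ.transl k p) u) = ρ (Φ.transl k p) u →
      ρ g w = w := fun g hg hgk hfix => by
    have h1 := Φ.pM_comp ρ hk0 hg hgk 0 (ρ (Φ.transl k p) u)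
    rw [map_zero, hfix, ← hw] at h1
    exact h1.symm
  have hwK : w ∈ Φ.K3 ρ k := by
    refine Φ.mem_K3_of_gens ρ hk2 (Φ.E_anti ρ (Nat.le_succ k) hwE) ?_
    intro i j hi hij hj b
    rcases eq_or_lt_of_le hi with rfl | hi'
    · exact (Φ.mem_E ρ).1 hwE k (Nat.lt_succ_self k) _ fun l hl => by
        rw [pl_smul_right, Φ.pee (by omega) (by omega), mul_zero]
    · have hei := e_mem_W (Φ := Φ) (k := k) (i := i) (by omega) hi'
      have hej := Submodule.smul_mem _ b (e_mem_W (Φ := Φ) (k := k) (i := j) (by omega) (by omega))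
      have hpz : polar ⇑Q (Φ.e i) (b • Φ.e j) = 0 := by rw [pl_smul_right, Φ.pee (by omega) (by omega), mul_zero]
      refine hcomm _ (diag_em (Φ.qe i (by omega)) hpz hei hej) (Φ.act_em_fix (Φ.qe i (by omega)) hpz
        (Φ.pee (by omega) hk0) (by rw [pl_smul_left, Φ.pee (by omega) hk0, mul_zero])) ?_
      exact ((Φ.mem_K3 ρ).1 hKw).2 _ (Φ.e_mem_S3 hi'.le (by omega)) _
        (Submodule.smul_mem _ b (Φ.e_mem_S3 (by omega) hj))
  -- `w` is fixed by a root group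
  have hroot : ∀ y ∈ Submodule.span F {Φ.f (k + 1), Φ.f (k + 2)}, polar ⇑Q pp y = 0 →
      ρ (Φ.em pp y) w = w := by
    intro y hy hpy
    obtain ⟨a, b, rfl⟩ := Submodule.mem_span_pair.1 hy
    obtain ⟨y, hydef⟩ : ∃ y, y = a • Φ.f (k + 1) + b • Φ.f (k + 2) := ⟨_, rfl⟩
    rw [← hydef] at hpy ⊢
    have hyW : y ∈ Φ.W k := hydef ▸ add_mem (Submodule.smul_mem _ _ (f_mem_W hk1 (by omega)))
      (Submodule.smul_mem _ _ (f_mem_W hk2 (by omega)))
    have hyQ : Q y = 0 := by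
      rw [hydef, Q_add, Q_smul, Q_smul, Φ.qf _ hk1, Φ.qf _ hk2, pl_smul_left, pl_smul_right,
        Φ.pff hk1 hk2]
      ring
    have hfy : polar ⇑Q (Φ.f k) y = 0 := W_f hyW le_rfl
    have hey : polar ⇑Q (Φ.e k) y = 0 := W_e hyW le_rfl
    have hLy : act (Φ.transl k p) y = y := by
      rw [transl, ← hpp]
      exact Φ.act_em_fix (Φ.qf k hk0) (W_f hppW le_rfl) hfy hpy
    have hpe : polar ⇑Q (Φ.e k) pp = 0 := W_e hppW le_rfl
    have h1 : Φ.em (Φ.e k) y * (Φ.em pp y * Φ.transl k p) = Φ.transl k p * Φ.em (Φ.e k) y := by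
      rw [← mul_assoc, ← Φ.em_add_left (Φ.qe k hk0) (Φ.S3_Q hk2 hppS) hpe hyQ hey hpy, Φ.mul_em (Φ.transl k p),
        hLy, transl_spec hk2 p k hk0, if_pos rfl, ← hpp]
    have h2 : ρ (Φ.em (Φ.e k) y) (ρ (Φ.em pp y) (ρ (Φ.transl k p) u)) = ρ (Φ.transl k p) u := by
      rw [← Module.End.mul_apply (ρ (Φ.em pp y)), ← map_mul, ← Module.End.mul_apply, ← map_mul, h1, map_mul,
        Module.End.mul_apply, (Φ.mem_E ρ).1 hu.2 k (Nat.lt_succ_self k) y fun i hi => W_e hyW hi]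
    have hd := diag_em (Φ.S3_Q hk2 hppS) hpy hppW hyW
    have hfix : act (Φ.em pp y) (Φ.e k) = Φ.e k := Φ.act_em_fix (Φ.S3_Q hk2 hppS) hpy
      (by rw [pl_comm]; exact hpe) (by rw [pl_comm]; exact hey)
    have h3 := Φ.pM_comp ρ hk0 hd hfix 0 (ρ (Φ.transl k p) u)
    have h4 := proj_rep ρ (Φ.tk k) (Φ.tk_add hk0) (ψ := Φ.chi k 0) ⟨y, hyW⟩
      (ρ (Φ.em pp y) (ρ (Φ.transl k p) u))
    rw [chi_apply, pl_zero_left, AddChar.map_zero_eq_one, one_smul] at h4
    change Φ.pM ρ k 0 (ρ (Φ.em (Φ.e k) y) (ρ (Φ.em pp y) (ρ (Φ.transl k p) u))) = Φ.pM ρ k 0 _ at h4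
    rw [h2, ← hw] at h4
    rw [map_zero, ← hw, ← h4] at h3
    exact h3.symm
  -- a conjugate of `w` lies in `E n`
  obtain ⟨g, d, hd, hgS, hgj, hge, hgf⟩ : ∃ (g : OG Q) (d : F), d ≠ 0 ∧
      (∀ u ∈ Φ.S3 k, act g u ∈ Φ.S3 k) ∧
      (∀ j ≤ k, act g (Φ.e j) = Φ.e j) ∧ act g (Φ.e (k + 1)) = d • pp ∧
      (act g (Φ.f (k + 2)) ∈ Submodule.span F {Φ.f (k + 1), Φ.f (k + 2)}) := by
    rcases ne_or_eq p.1 0 with ha | ha
    · have hc : polar ⇑Q (Φ.e (k + 2)) ((-(p.2 / p.1)) • Φ.f (k + 1)) = 0 := by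
        rw [pl_smul_right, Φ.pnef _ _ hk2 hk1 (by omega), mul_zero]
      have hj : ∀ j, j < n → j ≠ k + 1 → act (Φ.em (Φ.e (k + 2)) ((-(p.2 / p.1)) • Φ.f (k + 1))) (Φ.e j) = Φ.e j :=
        fun j hjn hj => Φ.act_em_fix (Φ.qe _ hk2) hc (Φ.pee hk2 hjn)
          (by rw [pl_smul_left, Φ.pnfe hk1 hjn (Ne.symm hj), mul_zero])
      have he1 : act (Φ.em (Φ.e (k + 2)) ((-(p.2 / p.1)) • Φ.f (k + 1))) (Φ.e (k + 1)) = p.1⁻¹ • pp := by
        rw [Φ.act_em (Φ.qe _ hk2) hc, Φ.pee hk2 hk1, pl_smul_left, Φ.pfe hk1, hpp, smul_add, smul_smul,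
          smul_smul, inv_mul_cancel₀ ha]
        module
      refine ⟨_, p.1⁻¹, inv_ne_zero ha, fun v hv => ?_, fun j hj' => hj j (by omega) (by omega), he1, ?_⟩
      · induction hv using Submodule.span_induction with
        | mem x hx =>
          simp only [Set.mem_insert_iff, Set.mem_singleton_iff] at hx
          rcases hx with rfl | rfl | rfl
          · rw [hj k hk0 (by omega)]; exact Φ.e_mem_S3 le_rfl (by omega)
          · rw [he1]; exact Submodule.smul_mem _ _ hppS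
          · rw [hj _ hk2 (by omega)]; exact Φ.e_mem_S3 (by omega) le_rfl
        | zero => rw [map_zero]; exact zero_mem _
        | add a b _ _ ha hb => rw [map_add]; exact add_mem ha hb
        | smul c a _ ha => rw [map_smul]; exact Submodule.smul_mem _ c ha
      · rw [Φ.act_em (Φ.qe _ hk2) hc, Φ.pef _ hk2, pl_smul_left, Φ.pff hk1 hk2, Q_smul, Φ.qf _ hk1]
        refine Submodule.mem_span_pair.2 ⟨-(p.2 / p.1), 1, ?_⟩
        simp only [mul_zero, zero_mul, add_zero, zero_smul, sub_zero, one_smul]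
        rw [add_comm]
    · have hb : p.2 ≠ 0 := fun hb => hp (Prod.ext ha hb)
      obtain ⟨s1, s2, -, s4, s5⟩ := Φ.sEl_spec hk1 hk2 (by omega) (one_ne_zero (α := F))
      simp only [inv_one, one_smul] at s1 s2 s4
      have hj : ∀ j, j < n → j ≠ k + 1 → j ≠ k + 2 → act (Φ.sEl (k + 1) (k + 2) 1) (Φ.e j) = Φ.e j :=
        fun j hjn h1 h2 => s5 _ (Φ.pee hk1 hjn) (Φ.pnfe hk1 hjn (Ne.symm h1)) (Φ.pee hk2 hjn)
          (Φ.pnfe hk2 hjn (Ne.symm h2))
      refine ⟨Φ.sEl (k + 1) (k + 2) 1, p.2⁻¹, inv_ne_zero hb, fun v hv => ?_,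
        fun j hj' => hj j (by omega) (by omega) (by omega), ?_, ?_⟩
      · induction hv using Submodule.span_induction with
        | mem x hx =>
          simp only [Set.mem_insert_iff, Set.mem_singleton_iff] at hx
          rcases hx with rfl | rfl | rfl
          · rw [hj k hk0 (by omega) (by omega)]; exact Φ.e_mem_S3 le_rfl (by omega)
          · rw [s1]; exact Φ.e_mem_S3 (by omega) le_rfl
          · rw [s2]; exact Submodule.smul_mem _ _ (Φ.e_mem_S3 (by omega) (by omega))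
        | zero => rw [map_zero]; exact zero_mem _
        | add a b _ _ ha hb => rw [map_add]; exact add_mem ha hb
        | smul c a _ ha => rw [map_smul]; exact Submodule.smul_mem _ c ha
      · rw [s1, hpp, ha, zero_smul, zero_add, smul_smul, inv_mul_cancel₀ hb, one_smul]
      · rw [s4]
        exact Submodule.smul_mem _ _ (Submodule.subset_span (by simp))
  obtain ⟨w', hw'⟩ : ∃ w', w' = ρ g⁻¹ w := ⟨_, rfl⟩
  have hfixj : ∀ j ≤ k, act g⁻¹ (Φ.e j) = Φ.e j := fun j hj => by conv_lhs => rw [← hgj j hj, act_inv_act]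
  have hw'E : w' ∈ Φ.E ρ (k + 1) := hw' ▸ Φ.mapsTo_E_fix ρ (fun j hj => hfixj j (by omega)) hwE
  have hgw : ρ g w' = w := by
    rw [hw', ← Module.End.mul_apply, ← map_mul, mul_inv_cancel, map_one, Module.End.one_apply]
  have hw'K : w' ∈ Φ.K3 ρ k := hw' ▸ Φ.mapsTo_K3 ρ (fun j hj => hfixj j hj.le)
    (fun v hv => by rw [inv_inv]; exact hgS v hv) hwK
  have hmem : w' ∈ Φ.E ρ (k + 2) := by
    rw [← Φ.M_zero ρ hk1]
    refine (Φ.mem_M ρ).2 ⟨hw'E, fun x hx => ?_⟩
    rw [pl_zero_left, AddChar.map_zero_eq_one, one_smul]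
    have hx' := W_coords hx
    rw [Φ.W_bot (x := Φ.projW (k + 1 + 1) x) (by
      rw [show n - 1 = k + 1 + 1 by omega]; exact Φ.projW_mem (by omega) x), add_zero] at hx'
    have he1 : polar ⇑Q (Φ.e (k + 1)) (polar ⇑Q (Φ.e (k + 1 + 1)) x • Φ.f (k + 1 + 1)) = 0 := by
      rw [pl_smul_right, Φ.pnef _ _ hk1 hk2 (by omega), mul_zero]
    have he2 : polar ⇑Q (Φ.e (k + 1)) (polar ⇑Q (Φ.f (k + 1 + 1)) x • Φ.e (k + 1 + 1)) = 0 := by
      rw [pl_smul_right, Φ.pee hk1 hk2, mul_zero]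
    rw [hx', add_comm (polar ⇑Q (Φ.f (k + 1 + 1)) x • Φ.e (k + 1 + 1)),
      Φ.em_add (Φ.qe _ hk1) he1 he2, map_mul, Module.End.mul_apply,
      ((Φ.mem_K3 ρ).1 hw'K).2 _ (Φ.e_mem_S3 (by omega) (by omega)) _
        (Submodule.smul_mem _ _ (Φ.e_mem_S3 (by omega) (by omega)))]
    refine rep_injective ρ g ?_
    rw [← Module.End.mul_apply, ← map_mul, Φ.mul_em, hge, map_smul, Φ.em_smul_left, map_mul, Module.End.mul_apply,
      hgw]
    refine hroot _ (Submodule.smul_mem _ _ (Submodule.smul_mem _ _ hgf)) ?_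
    have h5 : polar ⇑Q (act g (Φ.e (k + 1))) (act g (Φ.f (k + 2))) = 0 := by
      rw [act_polar, Φ.pnef _ _ hk1 hk2 (by omega)]
    rw [hge, pl_smul_left] at h5
    rw [pl_smul_right, pl_smul_right, (mul_eq_zero.1 h5).resolve_left hd, mul_zero, mul_zero]
  rw [show k + 2 = n - 1 by omega, E_bottom (Φ := Φ) (ρ := ρ) (by omega), hbot, Submodule.mem_bot] at hmem
  rw [← hgw, hmem, map_zero]

theorem Small.E_ne_bot (h : Φ.Small ρ) : Φ.E ρ n ≠ ⊥ := by
  classical
  intro hbot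
  have hn := h.hn
  obtain ⟨k, hk⟩ : ∃ k, k + 3 = n := ⟨n - 3, by omega⟩
  have := Fintype.ofFinite (Φ.W k)
  let f : ((_ : F × F) → Φ.H3 ρ k) →ₗ[ℂ] V :=
    ∑ p : F × F, ρ (Φ.transl k p) ∘ₗ (Φ.H3 ρ k).subtype ∘ₗ LinearMap.proj p
  have hf : ∀ u, f u = ∑ p : F × F, ρ (Φ.transl k p) (u p : V) := fun u => by
    simp [f, LinearMap.sum_apply]
  have hmem : ∀ u, f u ∈ Φ.K3 ρ k := fun u => by
    rw [hf]
    exact Submodule.sum_mem _ fun p _ => transl_mapsTo (by omega) p (u p).2.1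
  have hinj : Function.Injective (f.codRestrict _ hmem) := by
    refine LinearMap.ker_eq_bot.1 (LinearMap.ker_eq_bot'.2 fun u hu => funext fun r => Subtype.ext ?_)
    have h0 : f u = 0 := congrArg Subtype.val hu
    have h1 := congrArg (Φ.pM ρ k 0) (congrArg (ρ (Φ.transl k (-r))) h0)
    rw [map_zero, map_zero, hf, map_sum, map_sum, Finset.sum_eq_single r] at h1
    · rw [← Module.End.mul_apply (ρ (Φ.transl k (-r))), ← map_mul, ← transl_add (by omega), neg_add_cancel,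
        transl_zero, map_one,
        Module.End.one_apply] at h1
      rw [Pi.zero_apply, Submodule.coe_zero, ← h1]
      refine (Φ.pM_self ρ (show k < n by omega) ?_).symm
      rw [Φ.M_zero ρ (show k < n by omega)]
      exact (u r).2.2
    · intro p _ hp
      rw [← Module.End.mul_apply (ρ (Φ.transl k (-r))), ← map_mul, ← transl_add (by omega)]
      exact h.kill hk hbot (u p).2 (by rwa [ne_eq, add_comm, ← sub_eq_add_neg, sub_eq_zero])
    · exact fun hh => absurd (Finset.mem_univ _) hh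
  have h1 := LinearMap.finrank_le_finrank_of_injective hinj
  rw [Module.finrank_pi_fintype, Finset.sum_const, smul_eq_mul, Finset.card_univ, Fintype.card_prod] at h1
  have h2 := h.finrank_K3_le hk
  have h3 := h.two_le_H3 hk
  have h4 : 2 ≤ Fintype.card F * Fintype.card F := by nlinarith [h.hq]
  rw [sq] at h2
  generalize Fintype.card F * Fintype.card F = N at h1 h2 h4
  nlinarith

end Frame

end Cfsg.Agent.OrthPlusMinDegree
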