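import Cfsg.Agent.Lib.OrthPlusMinDegree.Nonvanish
import Cfsg.Agent.EqLemmas
/-
Torus weights on the vectors fixed by a maximal unipotent subgroup.
* Dg: the diagonal subgroup; Dg_comm, dg_ext; IsWt; exists_wt
* swapVec: the swap of two neighbouring coordinates followed by the average over a root group
* swapVec_swapVec: the quadratic relation; swap_wt
-/
set_option autoImplicit false
set_option linter.unusedSectionVars false

namespace Cfsg.Agent.OrthPlusMinDegree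

open Cfsg Module
open Cfsg.Agent.Orth
open Cfsg.Agent.SUMinDegree (rep_injective)
open QuadraticMap (polar)

variable {ι : Type} [Fintype ι] [DecidableEq ι] {F : Type*} [Field F] [Fintype F]
variable {Q : QuadraticForm F (ι → F)} {n : ℕ} (Φ : Frame Q n)
variable {V : Type} [AddCommGroup V] [Module ℂ V] [FiniteDimensional ℂ V] (ρ : Representation ℂ (OG Q) V)

namespace Frame

/-- The diagonal subgroup. -/
def Dg : Subgroup (OG Q) where
  carrier := {g | Φ.Diag g (n - 1)}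
  one_mem' := diag_one _
  mul_mem' := fun {a b} ha hb => ha.mul hb
  inv_mem' := fun {a} ha => ha.inv

theorem Dg_e {g : OG Q} (hg : g ∈ Φ.Dg) {l : ℕ} (hl : l < n) :
    ∃ c : F, c ≠ 0 ∧ act g (Φ.e l) = c • Φ.e l ∧ act g (Φ.f l) = c⁻¹ • Φ.f l := by
  obtain ⟨⟨c, hc, he⟩, d, hd, hf⟩ := hg l (by omega)
  refine ⟨c, hc, he, ?_⟩
  have h := act_polar g (Φ.e l) (Φ.f l)
  rw [he, hf, pl_smul_left, pl_smul_right, Φ.pef l hl, mul_one] at h
  rw [hf, eq_inv_of_mul_eq_one_right h]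

theorem dg_ext {g h : OG Q} (hg : g ∈ Φ.Dg) (hh : h ∈ Φ.Dg)
    (he : ∀ l, l < n → act g (Φ.e l) = act h (Φ.e l)) : g = h := by
  refine Φ.ext he (fun l hl => ?_) fun x hx => ?_
  · obtain ⟨c, -, hce, hcf⟩ := Φ.Dg_e hg hl
    obtain ⟨d, -, hde, hdf⟩ := Φ.Dg_e hh hl
    have h1 := he l hl
    rw [hce, hde] at h1
    rw [hcf, hdf, smul_left_injective F (Φ.hpair hl).ne_zero h1]
  · rw [Φ.W_bot hx, map_zero, map_zero]

theorem Dg_comm {g h : OG Q} (hg : g ∈ Φ.Dg) (hh : h ∈ Φ.Dg) : g * h = h * g := by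
  refine Φ.dg_ext (mul_mem hg hh) (mul_mem hh hg) fun l hl => ?_
  obtain ⟨c, -, hce, -⟩ := Φ.Dg_e hg hl
  obtain ⟨d, -, hde, -⟩ := Φ.Dg_e hh hl
  rw [act_mul, act_mul, hde, map_smul, hce, map_smul, hde, smul_smul, smul_smul, mul_comm]

theorem pairT_mem_Dg {i j : ℕ} (hi : i < n) (hj : j < n) (hij : i ≠ j) {x : F} (hx : x ≠ 0) :
    Φ.pairT i j x ∈ Φ.Dg :=
  Φ.pairT_diag hi hj hij hx (Nat.sub_lt Φ.n_pos one_pos)

theorem pairT_e {i j : ℕ} (hi : i < n) (hj : j < n) (hij : i ≠ j) {x : F} (hx : x ≠ 0) {l : ℕ} (hl : l < n) :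
    act (Φ.pairT i j x) (Φ.e l) = (if l = i then x else if l = j then x⁻¹ else 1) • Φ.e l := by
  obtain ⟨h1, h2, -, -, h5⟩ := Φ.pairT_spec hi hj hij hx
  split_ifs with hli hlj
  · rw [hli, h1]
  · rw [hlj, h2]
  · rw [one_smul]
    exact h5 _ (Φ.pee hi hl) (Φ.pnfe hi hl (Ne.symm hli)) (Φ.pee hj hl) (Φ.pnfe hj hl (Ne.symm hlj))

theorem pairT_trans {i j l : ℕ} (hi : i < n) (hj : j < n) (hl : l < n) (hij : i ≠ j) (hjl : j ≠ l) (hil : i ≠ l)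
    {x : F} (hx : x ≠ 0) : Φ.pairT i j x * Φ.pairT j l x = Φ.pairT i l x := by
  refine Φ.dg_ext (mul_mem (Φ.pairT_mem_Dg hi hj hij hx) (Φ.pairT_mem_Dg hj hl hjl hx))
    (Φ.pairT_mem_Dg hi hl hil hx) fun m hm => ?_
  rw [act_mul, Φ.pairT_e hj hl hjl hx hm, map_smul, Φ.pairT_e hi hj hij hx hm, Φ.pairT_e hi hl hil hx hm, smul_smul]
  congr 1
  split_ifs <;> first | omega | (field_simp)

theorem pairT_symm {i j : ℕ} (hi : i < n) (hj : j < n) (hij : i ≠ j) {x : F} (hx : x ≠ 0) :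
    Φ.pairT j i x = Φ.pairT i j x⁻¹ := by
  refine Φ.dg_ext (Φ.pairT_mem_Dg hj hi hij.symm hx) (Φ.pairT_mem_Dg hi hj hij (inv_ne_zero hx)) fun m hm => ?_
  rw [Φ.pairT_e hj hi hij.symm hx hm, Φ.pairT_e hi hj hij (inv_ne_zero hx) hm]
  congr 1
  split_ifs <;> first | omega | rw [inv_inv] | rfl

theorem pairT_mul {i j : ℕ} (hi : i < n) (hj : j < n) (hij : i ≠ j) {x y : F} (hx : x ≠ 0) (hy : y ≠ 0) :
    Φ.pairT i j (x * y) = Φ.pairT i j x * Φ.pairT i j y := by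
  refine Φ.dg_ext (Φ.pairT_mem_Dg hi hj hij (mul_ne_zero hx hy))
    (mul_mem (Φ.pairT_mem_Dg hi hj hij hx) (Φ.pairT_mem_Dg hi hj hij hy)) fun m hm => ?_
  rw [act_mul, Φ.pairT_e hi hj hij hy hm, map_smul, Φ.pairT_e hi hj hij hx hm,
    Φ.pairT_e hi hj hij (mul_ne_zero hx hy) hm, smul_smul]
  congr 1
  split_ifs <;> first | omega | ring | rw [mul_inv, mul_comm]

/-- A simultaneous eigenvector of the diagonal group fixed by the maximal unipotent group. -/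
structure IsWt (v : V) : Prop where
  ne : v ≠ 0
  mem : v ∈ Φ.E ρ n
  scal : ∀ g ∈ Φ.Dg, ∃ c : ℂ, ρ g v = c • v

theorem dg_mapsTo {g : OG Q} (hg : g ∈ Φ.Dg) {v : V} (hv : v ∈ Φ.E ρ n) : ρ g v ∈ Φ.E ρ n :=
  Φ.mapsTo_E ρ (fun j hj => (hg j (by omega)).1) hv

theorem exists_wt (h : Φ.E ρ n ≠ ⊥) : ∃ v, Φ.IsWt ρ v := by
  classical
  have := Fintype.ofFinite (OG Q)
  have key : ∀ s : Finset (OG Q), (∀ g ∈ s, g ∈ Φ.Dg) → ∃ X : Submodule ℂ V, X ≠ ⊥ ∧ X ≤ Φ.E ρ n ∧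
      (∀ g ∈ Φ.Dg, ∀ v ∈ X, ρ g v ∈ X) ∧ ∀ g ∈ s, ∃ c : ℂ, ∀ v ∈ X, ρ g v = c • v := by
    intro s
    induction s using Finset.induction_on with
    | empty => exact fun _ => ⟨_, h, le_rfl, fun g hg v hv => Φ.dg_mapsTo ρ hg hv, by simp⟩
    | insert a s ha ih =>
      intro hs
      obtain ⟨X, hX, hXE, hXinv, hXs⟩ := ih fun g hg => hs g (Finset.mem_insert_of_mem hg)
      have haD := hs a (Finset.mem_insert_self a s)
      have : Nontrivial X := Submodule.nontrivial_iff_ne_bot.2 hX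
      obtain ⟨c, hc⟩ := Module.End.exists_eigenvalue ((ρ a).restrict (hXinv a haD))
      obtain ⟨⟨w, hwX⟩, hw⟩ := hc.exists_hasEigenvector
      refine ⟨X ⊓ LinearMap.ker (ρ a - c • LinearMap.id), fun hbot => hw.2 ?_, inf_le_left.trans hXE,
        fun g hg v hv => ?_, fun g hg => ?_⟩
      · have h1 : ρ a w = c • w := congrArg Subtype.val hw.apply_eq_smul
        have h2 : w ∈ X ⊓ LinearMap.ker (ρ a - c • LinearMap.id) := ⟨hwX, by simp [h1]⟩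
        rw [hbot, Submodule.mem_bot] at h2
        exact Subtype.ext h2
      · obtain ⟨hv1, hv2⟩ := hv
        refine ⟨hXinv g hg v hv1, ?_⟩
        simp only [SetLike.mem_coe, LinearMap.mem_ker, LinearMap.sub_apply, LinearMap.smul_apply, LinearMap.id_apply,
          sub_eq_zero] at hv2 ⊢
        rw [← Module.End.mul_apply, ← map_mul, Φ.Dg_comm haD hg, map_mul, Module.End.mul_apply, hv2, map_smul]
      · rcases Finset.mem_insert.1 hg with rfl | hg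
        · exact ⟨c, fun v hv => by simpa [sub_eq_zero] using hv.2⟩
        · obtain ⟨d, hd⟩ := hXs g hg
          exact ⟨d, fun v hv => hd v hv.1⟩
  obtain ⟨X, hX, hXE, -, hXs⟩ := key (Finset.univ.filter (· ∈ Φ.Dg)) fun g hg => (Finset.mem_filter.1 hg).2
  obtain ⟨v, hv, hv0⟩ := Submodule.exists_mem_ne_zero_of_ne_bot hX
  exact ⟨v, hv0, hXE hv, fun g hg => (hXs g (by simp [hg])).imp fun c hc => hc v hv⟩

/-! ### Swaps -/

theorem sEl_perm {i : ℕ} (hi : i + 1 < n) {a : F} (ha : a ≠ 0) {l : ℕ} (hl : l < n) :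
    (∃ c : F, c ≠ 0 ∧ act (Φ.sEl i (i + 1) a) (Φ.e l) = c • Φ.e (Equiv.swap i (i + 1) l)) ∧
      ∃ c : F, c ≠ 0 ∧ act (Φ.sEl i (i + 1) a) (Φ.f l) = c • Φ.f (Equiv.swap i (i + 1) l) := by
  obtain ⟨h1, h2, h3, h4, h5⟩ := Φ.sEl_spec (i := i) (j := i + 1) (by omega) hi (by omega) ha
  rcases eq_or_ne l i with rfl | hli
  · rw [Equiv.swap_apply_left]
    exact ⟨⟨_, inv_ne_zero ha, h1⟩, _, ha, h3⟩
  rcases eq_or_ne l (i + 1) with rfl | hlj
  · rw [Equiv.swap_apply_right]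
    exact ⟨⟨_, neg_ne_zero.2 ha, h2⟩, _, neg_ne_zero.2 (inv_ne_zero ha), h4⟩
  rw [Equiv.swap_apply_of_ne_of_ne hli hlj]
  refine ⟨⟨1, one_ne_zero, ?_⟩, 1, one_ne_zero, ?_⟩ <;> rw [one_smul]
  · exact h5 _ (Φ.pee (by omega) hl) (Φ.pnfe (by omega) hl hli.symm) (Φ.pee hi hl) (Φ.pnfe hi hl hlj.symm)
  · exact h5 _ (Φ.pnef i l (by omega) hl hli.symm) (Φ.pff (by omega) hl) (Φ.pnef _ l hi hl hlj.symm) (Φ.pff hi hl)

theorem swap_lt {i l : ℕ} (hi : i + 1 < n) (hl : l < n) : Equiv.swap i (i + 1) l < n := by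
  rw [Equiv.swap_apply_def]; split_ifs <;> omega

/-- Conjugation by the swap. -/
theorem conj_swap {i : ℕ} (hi : i + 1 < n) {g : OG Q} (hg : g ∈ Φ.Dg) :
    (Φ.sEl i (i + 1) 1)⁻¹ * g * Φ.sEl i (i + 1) 1 ∈ Φ.Dg ∧
      ∀ l, l < n → ∀ c : F, act g (Φ.e (Equiv.swap i (i + 1) l)) = c • Φ.e (Equiv.swap i (i + 1) l) →
        act ((Φ.sEl i (i + 1) 1)⁻¹ * g * Φ.sEl i (i + 1) 1) (Φ.e l) = c • Φ.e l := by
  refine ⟨fun l hl => ?_, fun l hl c hc => ?_⟩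
  · obtain ⟨⟨a, ha, he⟩, b, hb, hf⟩ := Φ.sEl_perm hi (one_ne_zero (α := F)) (l := l) (by omega)
    obtain ⟨⟨a', ha', he'⟩, b', hb', hf'⟩ := hg (Equiv.swap i (i + 1) l)
      (by have := swap_lt hi (show l < n by omega); omega)
    refine ⟨⟨a', ha', ?_⟩, b', hb', ?_⟩
    · rw [act_mul, act_mul, he, map_smul, he', smul_comm, map_smul, ← he, act_inv_act]
    · rw [act_mul, act_mul, hf, map_smul, hf', smul_comm, map_smul, ← hf, act_inv_act]
  · obtain ⟨⟨a, ha, he⟩, -⟩ := Φ.sEl_perm hi (one_ne_zero (α := F)) hl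
    rw [act_mul, act_mul, he, map_smul, hc, smul_comm, map_smul, ← he, act_inv_act]

theorem sEl_sq_mem {i : ℕ} (hi : i + 1 < n) : Φ.sEl i (i + 1) 1 * Φ.sEl i (i + 1) 1 ∈ Φ.Dg := by
  intro l hl
  obtain ⟨⟨a, ha, he⟩, b, hb, hf⟩ := Φ.sEl_perm hi (one_ne_zero (α := F)) (l := l) (by omega)
  obtain ⟨⟨a', ha', he'⟩, b', hb', hf'⟩ := Φ.sEl_perm hi (one_ne_zero (α := F))
    (swap_lt hi (show l < n by omega))
  rw [Equiv.swap_apply_self] at he' hf'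
  exact ⟨⟨a * a', mul_ne_zero ha ha', by rw [act_mul, he, map_smul, he', smul_smul]⟩,
    b * b', mul_ne_zero hb hb', by rw [act_mul, hf, map_smul, hf', smul_smul]⟩

/-- The root element carrying the swap. -/
noncomputable def rEl (i : ℕ) (a : F) : OG Q := Φ.em (Φ.e i) (a • Φ.f (i + 1))

theorem rEl_add {i : ℕ} (hi : i + 1 < n) (a b : F) : Φ.rEl i (a + b) = Φ.rEl i a * Φ.rEl i b := by
  have h : ∀ c : F, polar ⇑Q (Φ.e i) (c • Φ.f (i + 1)) = 0 := fun c => by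
    rw [pl_smul_right, Φ.pnef i (i + 1) (by omega) hi (by omega), mul_zero]
  rw [rEl, rEl, rEl, add_smul, Φ.em_add (Φ.qe i (by omega)) (h a) (h b)]

theorem rEl_fix_W {i : ℕ} (hi : i + 1 < n) (a : F) {j : ℕ} (hj : j < n) (hne : j ≠ i + 1) :
    act (Φ.rEl i a) (Φ.e j) = Φ.e j := by
  rw [rEl]
  exact Φ.act_em_fix (Φ.qe i (by omega)) (by rw [pl_smul_right, Φ.pnef i (i + 1) (by omega) hi (by omega), mul_zero])
    (Φ.pee (by omega) hj) (by rw [pl_smul_left, Φ.pnfe hi hj hne.symm, mul_zero])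

/-- The new weight vector. -/
noncomputable def swapVec (i : ℕ) : V →ₗ[ℂ] V := ∑ a : F, ρ (Φ.rEl i a) ∘ₗ ρ (Φ.sEl i (i + 1) 1)

theorem swapVec_apply (i : ℕ) (v : V) :
    Φ.swapVec ρ i v = ∑ a : F, ρ (Φ.rEl i a) (ρ (Φ.sEl i (i + 1) 1) v) := by
  simp [swapVec, LinearMap.sum_apply]

theorem swapVec_mem {i : ℕ} (hi : i + 1 < n) {v : V} (hv : v ∈ Φ.E ρ n) : Φ.swapVec ρ i v ∈ Φ.E ρ n := by
  have hi' : i < n := by omega
  obtain ⟨s1, s2, -, -, s5⟩ := Φ.sEl_spec hi' hi (by omega) (one_ne_zero (α := F))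
  simp only [inv_one, one_smul] at s1 s2
  obtain ⟨s, hs⟩ : ∃ s, s = Φ.sEl i (i + 1) 1 := ⟨_, rfl⟩
  rw [← hs] at s1 s2 s5
  have sfix : ∀ j, j < n → j ≠ i → j ≠ i + 1 → act s (Φ.e j) = Φ.e j := fun j hj h1 h2 =>
    s5 _ (Φ.pee hi' hj) (Φ.pnfe hi' hj h1.symm) (Φ.pee hi hj) (Φ.pnfe hi hj h2.symm)
  have hsv : ρ s v ∈ Φ.E ρ i :=
    Φ.mapsTo_E_fix ρ (fun j hj => sfix j (by omega) (by omega) (by omega)) (Φ.E_anti ρ (by omega) hv)
  -- elements fixing `s v`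
  have hA : ∀ x : ι → F, (∀ l ≤ i + 1, polar ⇑Q (Φ.e l) x = 0) → ρ (Φ.em (Φ.e i) x) (ρ s v) = ρ s v := by
    intro x hx
    have h1 : Φ.em (Φ.e i) x * s = s * Φ.em (Φ.e (i + 1)) (-act s⁻¹ x) := by
      rw [Φ.mul_em, s2, map_neg, act_act_inv, Φ.em_smul_left, neg_smul, one_smul, neg_neg]
    rw [← Module.End.mul_apply, ← map_mul, h1, map_mul, Module.End.mul_apply,
      (Φ.mem_E ρ).1 hv (i + 1) hi _ fun l hl => ?_]
    rw [pl_neg_right, neg_eq_zero, ← act_polar s, act_act_inv]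
    rcases eq_or_ne l i with rfl | hli
    · rw [s1, hx (l + 1) le_rfl]
    rcases eq_or_ne l (i + 1) with rfl | hlj
    · rw [s2, pl_smul_left, hx i (by omega), mul_zero]
    · rw [sfix l (by omega) hli hlj, hx l hl]
  have hB : ∀ j, i + 1 ≤ j → j < n → ∀ x : ι → F, (∀ l ≤ j, polar ⇑Q (Φ.e l) x = 0) →
      ρ (Φ.em (Φ.e j) x) (ρ s v) = ρ s v := by
    intro j hij hj x hx
    rcases eq_or_lt_of_le hij with rfl | hlt
    · have h1 : Φ.em (Φ.e (i + 1)) x * s = s * Φ.em (Φ.e i) (act s⁻¹ x) := by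
        rw [Φ.mul_em, s1, act_act_inv]
      rw [← Module.End.mul_apply, ← map_mul, h1, map_mul, Module.End.mul_apply,
        (Φ.mem_E ρ).1 hv i hi' _ fun l hl => ?_]
      rw [← act_polar s, act_act_inv]
      rcases eq_or_ne l i with rfl | hli
      · rw [s1, hx (l + 1) le_rfl]
      · rw [sfix l (by omega) hli (by omega), hx l (by omega)]
    · have h1 : Φ.em (Φ.e j) x * s = s * Φ.em (Φ.e j) (act s⁻¹ x) := by
        rw [Φ.mul_em, sfix j hj (by omega) (by omega), act_act_inv]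
      rw [← Module.End.mul_apply, ← map_mul, h1, map_mul, Module.End.mul_apply,
        (Φ.mem_E ρ).1 hv j hj _ fun l hl => ?_]
      rw [← act_polar s, act_act_inv]
      rcases eq_or_ne l i with rfl | hli
      · rw [s1, hx (l + 1) (by omega)]
      rcases eq_or_ne l (i + 1) with rfl | hlj
      · rw [s2, pl_smul_left, hx i (by omega), mul_zero]
      · rw [sfix l (by omega) hli hlj, hx l hl]
  rw [swapVec_apply, ← hs]
  refine (Φ.mem_E ρ).2 fun j hj x hx => ?_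
  rcases lt_trichotomy j i with hji | rfl | hji
  · refine (Φ.mem_E ρ).1 (Submodule.sum_mem _ fun a _ => ?_) j hji x hx
    exact Φ.mapsTo_E_fix ρ (fun l hl => Φ.rEl_fix_W hi a (by omega) (by omega)) hsv
  · obtain ⟨β, hβ⟩ : ∃ β, β = polar ⇑Q (Φ.e (j + 1)) x := ⟨_, rfl⟩
    have hef : polar ⇑Q (Φ.e j) (Φ.f (j + 1)) = 0 := Φ.pnef j (j + 1) hj hi (by omega)
    have hx' : ∀ l ≤ j + 1, polar ⇑Q (Φ.e l) (x - β • Φ.f (j + 1)) = 0 := fun l hl => by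
      rw [pl_sub_right, pl_smul_right]
      rcases eq_or_ne l (j + 1) with rfl | hne
      · rw [Φ.pef _ hi, hβ, mul_one, sub_self]
      · rw [hx l (by omega), Φ.pnef l (j + 1) (by omega) hi hne, mul_zero, sub_zero]
    rw [map_sum]
    refine Fintype.sum_equiv (Equiv.addRight β) _ _ fun a => ?_
    have h1 : Φ.em (Φ.e j) x * Φ.rEl j a = Φ.rEl j (a + β) * Φ.em (Φ.e j) (x - β • Φ.f (j + 1)) := by
      rw [rEl, rEl, ← Φ.em_add (Φ.qe j hj) (hx j le_rfl) (by rw [pl_smul_right, hef, mul_zero]),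
        ← Φ.em_add (Φ.qe j hj) (by rw [pl_smul_right, hef, mul_zero]) (hx' j (by omega))]
      congr 1
      module
    rw [Equiv.coe_addRight, ← Module.End.mul_apply, ← map_mul, h1, map_mul, Module.End.mul_apply, hA _ hx']
  · rw [map_sum]
    refine Finset.sum_congr rfl fun a _ => ?_
    have hgl : ∀ l ≤ j, act (Φ.em (Φ.e j) x) (Φ.e l) = Φ.e l := fun l hl =>
      Φ.act_em_fix (Φ.qe j hj) (hx j le_rfl) (Φ.pee hj (by omega)) (by rw [pl_comm, hx l hl])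
    obtain ⟨d, hd⟩ : ∃ d, d = a • (act (Φ.em (Φ.e j) x) (Φ.f (i + 1)) - Φ.f (i + 1)) := ⟨_, rfl⟩
    have hd' : ∀ l ≤ i + 1, polar ⇑Q (Φ.e l) d = 0 := fun l hl => by
      rw [hd, pl_smul_right, pl_sub_right]
      conv_lhs => enter [2, 1]; rw [← hgl l (by omega), act_polar]
      rw [sub_self, mul_zero]
    have h1 : Φ.em (Φ.e j) x * Φ.rEl i a = Φ.rEl i a * Φ.em (Φ.e i) d * Φ.em (Φ.e j) x := by
      rw [rEl, Φ.mul_em, hgl i hji.le, map_smul,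
        ← Φ.em_add (Φ.qe i hi') (by rw [pl_smul_right, Φ.pnef i (i + 1) hi' hi (by omega), mul_zero])
          (hd' i (by omega)), hd]
      congr 2
      module
    rw [← Module.End.mul_apply, ← map_mul, h1, map_mul, map_mul, Module.End.mul_apply, Module.End.mul_apply,
      hB j hji hj x hx, hA d hd']

theorem rEl_fixed {i : ℕ} (hi : i + 1 < n) {v : V} (hv : v ∈ Φ.E ρ n) (a : F) : ρ (Φ.rEl i a) v = v :=
  (Φ.mem_E ρ).1 hv i (by omega) _ fun l hl => by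
    rw [pl_smul_right, Φ.pnef l (i + 1) (by omega) hi (by omega), mul_zero]

/-- The quadratic relation. -/
theorem swapVec_swapVec [Fintype Fˣ] {i : ℕ} (hi : i + 1 < n) {v : V} (hv : v ∈ Φ.E ρ n) :
    Φ.swapVec ρ i (Φ.swapVec ρ i v) =
      (Fintype.card F : ℂ) • ρ (Φ.sEl i (i + 1) 1 * Φ.sEl i (i + 1) 1) v +
        ∑ c : Fˣ, Φ.swapVec ρ i
          (ρ (Φ.pairT i (i + 1) (c : F))⁻¹ (ρ (Φ.sEl i (i + 1) 1 * Φ.sEl i (i + 1) 1) v)) := by
  classical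
  have hi' : i < n := by omega
  obtain ⟨s, hs⟩ : ∃ s, s = Φ.sEl i (i + 1) 1 := ⟨_, rfl⟩
  obtain ⟨R, hR⟩ : ∃ R : F → OG Q, ∀ b, R b = Φ.em (Φ.e (i + 1)) (b • Φ.f i) := ⟨_, fun b => rfl⟩
  have hadd := Φ.rEl_add hi
  have h00 : Φ.rEl i 0 = 1 := by rw [rEl, zero_smul, Φ.em_zero]
  have hconj : ∀ a : F, R a * s = s * Φ.rEl i (-a) := fun a => by
    obtain ⟨s1, -, -, s4, -⟩ := Φ.sEl_spec hi' hi (by omega) (one_ne_zero (α := F))
    rw [← hs, inv_one] at s1 s4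
    rw [rEl, Φ.mul_em s, s1, map_smul, s4, one_smul, hR, neg_smul, neg_smul, one_smul, smul_neg, neg_neg]
  rw [← hs]
  obtain ⟨u, hu⟩ : ∃ u, u = ρ (s * s) v := ⟨_, rfl⟩
  rw [← hu]
  have huE : u ∈ Φ.E ρ n := hu ▸ Φ.dg_mapsTo ρ (hs ▸ Φ.sEl_sq_mem hi) hv
  rw [swapVec_apply, ← hs, swapVec_apply, ← hs]
  have h1 : ∀ b : F, ρ s (ρ (Φ.rEl i b) (ρ s v)) = ρ (R (-b)) u := fun b => by
    rw [hu, map_mul, Module.End.mul_apply, ← Module.End.mul_apply (ρ (R (-b))), ← map_mul, hconj, neg_neg, map_mul,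
      Module.End.mul_apply]
  rw [Finset.sum_congr rfl fun a _ => show ρ (Φ.rEl i a) (ρ s (∑ b : F, ρ (Φ.rEl i b) (ρ s v))) =
    ∑ b : F, ρ (Φ.rEl i a) (ρ (R (-b)) u) by rw [map_sum, map_sum]; simp only [h1], Finset.sum_comm,
    ← Finset.add_sum_erase _ _ (Finset.mem_univ (0 : F))]
  congr 1
  · rw [neg_zero, hR, zero_smul, Φ.em_zero, map_one, Module.End.one_apply,
      Finset.sum_congr rfl fun a _ => Φ.rEl_fixed ρ hi huE a, Finset.sum_const, Finset.card_univ,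
      Nat.cast_smul_eq_nsmul]
  · refine (Finset.sum_bij (fun (c : Fˣ) _ => (c : F)⁻¹) (fun c _ => by simp) (fun a _ b _ hab => ?_)
      (fun b hb => ?_) fun c _ => ?_).symm
    · exact Units.ext (inv_injective hab)
    · exact ⟨Units.mk0 b⁻¹ (inv_ne_zero (Finset.ne_of_mem_erase hb)), Finset.mem_univ _, by simp⟩
    have hsplit : Φ.sEl i (i + 1) c = Φ.rEl i c * R (-(c : F)⁻¹) * Φ.rEl i c := by rw [sEl, rEl, hR]
    have hRa : R (-(c : F)⁻¹) = Φ.rEl i (-c) * Φ.sEl i (i + 1) c * Φ.rEl i (-c) := by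
      rw [hsplit]
      simp only [mul_assoc, ← hadd, add_neg_cancel, h00, mul_one]
      rw [← mul_assoc, ← hadd, neg_add_cancel, h00, one_mul]
    have hsel : Φ.sEl i (i + 1) c = s * (Φ.pairT i (i + 1) c)⁻¹ := by
      rw [hs, pairT]
      simp [mul_inv_rev]
    rw [swapVec_apply, ← hs]
    refine Fintype.sum_equiv (Equiv.addRight (c : F)) _ _ fun a => ?_
    rw [Equiv.coe_addRight, hRa, map_mul, Module.End.mul_apply, Φ.rEl_fixed ρ hi huE, map_mul, Module.End.mul_apply,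
      ← Module.End.mul_apply (ρ (Φ.rEl i (a + c))), ← map_mul, ← hadd, add_neg_cancel_right, hsel, map_mul,
      Module.End.mul_apply]

theorem swapVec_ne {i : ℕ} (hi : i + 1 < n) {v : V} (hv : Φ.IsWt ρ v) : Φ.swapVec ρ i v ≠ 0 := by
  classical
  intro h0
  obtain ⟨t, ht⟩ := hv.scal _ (Φ.sEl_sq_mem hi)
  have h2 := Φ.swapVec_swapVec ρ hi hv.mem
  rw [h0, map_zero, ht, Finset.sum_eq_zero fun c _ => ?_, add_zero, eq_comm, smul_smul, smul_eq_zero] at h2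
  · refine hv.ne ((h2.resolve_left fun hz => ?_))
    rcases mul_eq_zero.1 hz with hz | hz
    · exact Fintype.card_ne_zero (Nat.cast_eq_zero.1 hz)
    · exact hv.ne (rep_injective ρ _ (by rw [ht, hz, zero_smul, map_zero]))
  · obtain ⟨u, hu⟩ := hv.scal _ (inv_mem (Φ.pairT_mem_Dg (show i < n by omega) hi (by omega) c.ne_zero))
    rw [map_smul, hu, map_smul, map_smul, h0, smul_zero, smul_zero]

/-- The weight of the new vector. -/
theorem swapVec_scal {i : ℕ} (hi : i + 1 < n) {v : V} {g : OG Q} (hg : g ∈ Φ.Dg) {c : ℂ}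
    (hc : ρ ((Φ.sEl i (i + 1) 1)⁻¹ * g * Φ.sEl i (i + 1) 1) v = c • v) :
    ρ g (Φ.swapVec ρ i v) = c • Φ.swapVec ρ i v := by
  have hi' : i < n := by omega
  obtain ⟨a₁, ha₁, he, -⟩ := Φ.Dg_e hg hi'
  obtain ⟨a₂, ha₂, -, hf⟩ := Φ.Dg_e hg hi
  have hl : a₁ * a₂⁻¹ ≠ 0 := mul_ne_zero ha₁ (inv_ne_zero ha₂)
  rw [swapVec_apply, map_sum, Finset.smul_sum]
  refine Fintype.sum_equiv (Equiv.mulLeft₀ (a₁ * a₂⁻¹) hl) _ _ fun a => ?_
  have h1 : g * Φ.rEl i a = Φ.rEl i (a₁ * a₂⁻¹ * a) * g := by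
    rw [rEl, rEl, Φ.mul_em, he, map_smul, hf, Φ.em_smul_left, smul_smul, smul_smul]
    congr 3
    ring
  have h2 : g * Φ.sEl i (i + 1) 1 =
      Φ.sEl i (i + 1) 1 * ((Φ.sEl i (i + 1) 1)⁻¹ * g * Φ.sEl i (i + 1) 1) := by group
  rw [Equiv.mulLeft₀_apply, ← Module.End.mul_apply, ← map_mul, h1, map_mul, Module.End.mul_apply,
    ← Module.End.mul_apply (ρ g), ← map_mul, h2, map_mul, Module.End.mul_apply, hc, map_smul, map_smul]

theorem swap_wt {i : ℕ} (hi : i + 1 < n) {v : V} (hv : Φ.IsWt ρ v) : Φ.IsWt ρ (Φ.swapVec ρ i v) :=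
  ⟨Φ.swapVec_ne ρ hi hv, Φ.swapVec_mem ρ hi hv.mem, fun g hg => by
    obtain ⟨c, hc⟩ := hv.scal _ (Φ.conj_swap hi hg).1
    exact ⟨c, Φ.swapVec_scal ρ hi hg hc⟩⟩

variable {Φ ρ}

/-- A transfer from the swapped vector. -/
theorem fixed_of_swap {i : ℕ} (hi : i + 1 < n) {v : V} (hv : Φ.IsWt ρ v) {g : OG Q} (hg : g ∈ Φ.Dg)
    (h : ρ g (Φ.swapVec ρ i v) = Φ.swapVec ρ i v) :
    ρ ((Φ.sEl i (i + 1) 1)⁻¹ * g * Φ.sEl i (i + 1) 1) v = v := by
  obtain ⟨c, hc⟩ := hv.scal _ (Φ.conj_swap hi hg).1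
  rw [Φ.swapVec_scal ρ hi hg hc] at h
  rw [hc, smul_left_injective ℂ (Φ.swapVec_ne ρ hi hv) (h.trans (one_smul ℂ _).symm), one_smul]

end Frame

end Cfsg.Agent.OrthPlusMinDegree
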