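import Cfsg.Agent.Lib.OrthPlusMinDegree.Nonvanish
import Cfsg.Agent.Lib.OrthPlusMinDegree.Swap
import Cfsg.Agent.EqLemmas
/-
The part of a swapped vector moved by the root group of the swap.
* Rc i α: the α-component;  Rc_mem_M;  sEl_fixed_of_Rc
* tail_fix: roots beyond i+1 fix the components;  bottom_fix: so does the other node at the fork
-/
set_option autoImplicit false
set_option linter.unusedSectionVars false

namespace Cfsg.Agent.OrthPlusMinDegree

open Cfsg Module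
open Cfsg.Agent.Orth
open Cfsg.Agent.SUMinDegree (rep_injective)
open QuadraticMap (polar)

/-- A one-parameter group scaled by an element acting by a scalar fixes the line. -/
theorem line_trick {G : Type*} [Group G] {V : Type*} [AddCommGroup V] [Module ℂ V] (ρ : Representation ℂ G V)
    {F : Type*} [Field F] (t : F → G) (ht : ∀ a b, t (a + b) = t a * t b) {u : V}
    (hc : ∀ a, ∃ c : ℂ, ρ (t a) u = c • u) {h : G} (hh : ∃ d : ℂ, ρ h u = d • u) {m : F}
    (hm : m ≠ 1) (hconj : ∀ a, h * t a = t (m * a) * h) (a : F) : ρ (t a) u = u := by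
  rcases eq_or_ne u 0 with rfl | hu
  · rw [map_zero]
  choose c hc using hc
  obtain ⟨d, hd⟩ := hh
  have hd0 : d ≠ 0 := fun hz => hu (rep_injective ρ h (by rw [hd, hz, zero_smul, map_zero]))
  have key : ∀ b : F, c (m * b) = c b := fun b => by
    have e2 := congrArg (fun g => ρ g u) (hconj b)
    simp only [map_mul, Module.End.mul_apply, hc, map_smul, hd, smul_smul] at e2
    have := smul_left_injective ℂ hu e2
    exact (mul_left_cancel₀ hd0 (by linear_combination this)).symm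
  have hadd : ∀ b b' : F, c (b + b') = c b * c b' := fun b b' => by
    have e2 := hc (b + b')
    rw [ht, map_mul, Module.End.mul_apply, hc, map_smul, hc, smul_smul] at e2
    have := smul_left_injective ℂ hu e2
    linear_combination -this
  have hc0 : ∀ b, c b ≠ 0 := fun b hz => hu (rep_injective ρ (t b) (by rw [hc, hz, zero_smul, map_zero]))
  obtain ⟨b, rfl⟩ : ∃ b, a = m * b - b := ⟨a / (m - 1), by
    rw [← sub_one_mul, mul_div_cancel₀ _ (sub_ne_zero.2 hm)]⟩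
  have h1 := hadd (m * b - b) b
  rw [sub_add_cancel, key] at h1
  rw [hc, (mul_eq_right₀ (hc0 b)).1 h1.symm, one_smul]

variable {ι : Type} [Fintype ι] [DecidableEq ι] {F : Type*} [Field F] [Fintype F]
variable {Q : QuadraticForm F (ι → F)} {n : ℕ} (Φ : Frame Q n)
variable {V : Type} [AddCommGroup V] [Module ℂ V] [FiniteDimensional ℂ V] (ρ : Representation ℂ (OG Q) V)

theorem sum_psi_mul (b : F) [Decidable (b = 0)] :
    ∑ t : F, psi F (t * b) = if b = 0 then (Fintype.card F : ℂ) else 0 := by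
  classical
  rw [psi, AddChar.sum_mulShift b (AddChar.FiniteField.primitiveChar_to_Complex_isPrimitive F)]
  split_ifs <;> simp

namespace Frame

/-- The component of the swapped vector at the character `α` of the root group. -/
noncomputable def Rc (i : ℕ) (α : F) : V →ₗ[ℂ] V :=
  ∑ t : F, psi F (-(α * t)) • (ρ (Φ.rEl i t) ∘ₗ ρ (Φ.sEl i (i + 1) 1))

theorem Rc_apply (i : ℕ) (α : F) (v : V) :
    Φ.Rc ρ i α v = ∑ t : F, psi F (-(α * t)) • ρ (Φ.rEl i t) (ρ (Φ.sEl i (i + 1) 1) v) := by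
  simp [Rc, LinearMap.sum_apply]

theorem Rc_zero (i : ℕ) (v : V) : Φ.Rc ρ i 0 v = Φ.swapVec ρ i v := by
  rw [Rc_apply, swapVec_apply]
  exact Finset.sum_congr rfl fun t _ => by rw [zero_mul, neg_zero, AddChar.map_zero_eq_one, one_smul]

theorem sum_Rc {i : ℕ} (v : V) :
    ∑ α : F, Φ.Rc ρ i α v = (Fintype.card F : ℂ) • ρ (Φ.sEl i (i + 1) 1) v := by
  classical
  simp only [Rc_apply]
  rw [Finset.sum_comm, Finset.sum_eq_single (0 : F)]
  · rw [Finset.sum_congr rfl fun α _ => by rw [mul_zero, neg_zero, AddChar.map_zero_eq_one, one_smul],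
      Finset.sum_const, Finset.card_univ, Nat.cast_smul_eq_nsmul, rEl, zero_smul, Φ.em_zero, map_one,
      Module.End.one_apply]
  · intro t _ ht
    rw [← Finset.sum_smul, Finset.sum_congr rfl fun α _ => show psi F (-(α * t)) = psi F (α * -t) by rw [mul_neg],
      sum_psi_mul, if_neg (neg_ne_zero.2 ht), zero_smul]
  · exact fun h => absurd (Finset.mem_univ _) h

/-- The radical elements at `e_i` fixing the swapped vector. -/
theorem swapped_fix {i : ℕ} (hi : i + 1 < n) {v : V} (hv : v ∈ Φ.E ρ n) {x : ι → F}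
    (hx : ∀ l ≤ i + 1, polar ⇑Q (Φ.e l) x = 0) :
    ρ (Φ.em (Φ.e i) x) (ρ (Φ.sEl i (i + 1) 1) v) = ρ (Φ.sEl i (i + 1) 1) v := by
  have hi' : i < n := by omega
  obtain ⟨s1, s2, -, -, s5⟩ := Φ.sEl_spec hi' hi (by omega) (one_ne_zero (α := F))
  simp only [inv_one, one_smul] at s1 s2
  obtain ⟨s, hs⟩ : ∃ s, s = Φ.sEl i (i + 1) 1 := ⟨_, rfl⟩
  rw [← hs] at s1 s2 s5 ⊢
  have h1 : Φ.em (Φ.e i) x * s = s * Φ.em (Φ.e (i + 1)) (-act s⁻¹ x) := by
    rw [Φ.mul_em, s2, map_neg, act_act_inv, Φ.em_smul_left, neg_smul, one_smul, neg_neg]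
  rw [← Module.End.mul_apply, ← map_mul, h1, map_mul, Module.End.mul_apply,
    (Φ.mem_E ρ).1 hv (i + 1) hi _ fun l hl => ?_]
  rw [pl_neg_right, neg_eq_zero, ← act_polar s, act_act_inv]
  rcases eq_or_ne l i with rfl | hli
  · rw [s1, hx (l + 1) le_rfl]
  rcases eq_or_ne l (i + 1) with rfl | hlj
  · rw [s2, pl_smul_left, hx i (by omega), mul_zero]
  · rw [s5 _ (Φ.pee hi' (by omega)) (Φ.pnfe hi' (by omega) hli.symm) (Φ.pee hi (by omega))
      (Φ.pnfe hi (by omega) hlj.symm), hx l hl]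

theorem Rc_mem_M {i : ℕ} (hi : i + 1 < n) {v : V} (hv : v ∈ Φ.E ρ n) (α : F) :
    Φ.Rc ρ i α v ∈ Φ.M ρ i (α • Φ.e (i + 1)) := by
  have hi' : i < n := by omega
  have hef : polar ⇑Q (Φ.e i) (Φ.f (i + 1)) = 0 := Φ.pnef i (i + 1) hi' hi (by omega)
  obtain ⟨-, -, -, -, s5⟩ := Φ.sEl_spec hi' hi (by omega) (one_ne_zero (α := F))
  rw [Rc_apply]
  refine (Φ.mem_M ρ).2 ⟨Submodule.sum_mem _ fun t _ => Submodule.smul_mem _ _ ?_, fun x hx => ?_⟩
  · exact Φ.mapsTo_E_fix ρ (fun l hl => Φ.rEl_fix_W hi t (by omega) (by omega)) (Φ.mapsTo_E_fix ρ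
      (fun l hl => s5 _ (Φ.pee hi' (by omega)) (Φ.pnfe hi' (by omega) (by omega)) (Φ.pee hi (by omega))
        (Φ.pnfe hi (by omega) (by omega))) (Φ.E_anti ρ (by omega) hv))
  obtain ⟨β, hβ⟩ : ∃ β, β = polar ⇑Q (Φ.e (i + 1)) x := ⟨_, rfl⟩
  have hx' : ∀ l ≤ i + 1, polar ⇑Q (Φ.e l) (x - β • Φ.f (i + 1)) = 0 := fun l hl => by
    rw [pl_sub_right, pl_smul_right]
    rcases eq_or_ne l (i + 1) with rfl | hne
    · rw [Φ.pef _ hi, hβ, mul_one, sub_self]
    · rw [W_e hx (by omega), Φ.pnef l (i + 1) (by omega) hi hne, mul_zero, sub_zero]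
  rw [map_sum, Finset.smul_sum, pl_smul_left, ← hβ]
  refine Fintype.sum_equiv (Equiv.addRight β) _ _ fun t => ?_
  have h1 : Φ.em (Φ.e i) x * Φ.rEl i t = Φ.rEl i (t + β) * Φ.em (Φ.e i) (x - β • Φ.f (i + 1)) := by
    rw [rEl, rEl, ← Φ.em_add (Φ.qe i hi') (W_e hx le_rfl) (by rw [pl_smul_right, hef, mul_zero]),
      ← Φ.em_add (Φ.qe i hi') (by rw [pl_smul_right, hef, mul_zero]) (hx' i (by omega))]
    congr 1
    module
  rw [Equiv.coe_addRight, map_smul, ← Module.End.mul_apply, ← map_mul, h1, map_mul, Module.End.mul_apply,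
    Φ.swapped_fix ρ hi hv hx', smul_smul, ← AddChar.map_add_eq_mul]
  congr 2
  ring

/-- Without components the swapped pair fixes the vector. -/
theorem sEl_fixed_of_Rc {i : ℕ} (hi : i + 1 < n) {v : V} (hv : v ∈ Φ.E ρ n)
    (h0 : ∀ α : F, α ≠ 0 → Φ.Rc ρ i α v = 0) {c : F} (hc : c ≠ 0) : ρ (Φ.sEl i (i + 1) c) v = v := by
  classical
  have hi' : i < n := by omega
  have h1 := Φ.sum_Rc ρ (i := i) v
  rw [Finset.sum_eq_single (0 : F) (fun α _ hα => h0 α hα) (fun h => absurd (Finset.mem_univ _) h), Rc_zero] at h1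
  obtain ⟨s1, -, -, s4, -⟩ := Φ.sEl_spec hi' hi (by omega) (one_ne_zero (α := F))
  obtain ⟨s, hs⟩ : ∃ s, s = Φ.sEl i (i + 1) 1 := ⟨_, rfl⟩
  rw [← hs] at h1
  rw [← hs, inv_one] at s1 s4
  have hsv : ρ s v ∈ Φ.E ρ n := by
    have h2 : (Fintype.card F : ℂ) • ρ s v ∈ Φ.E ρ n := h1 ▸ Φ.swapVec_mem ρ hi hv
    exact (Submodule.smul_mem_iff _ (Nat.cast_ne_zero.2 Fintype.card_ne_zero)).1 h2
  obtain ⟨u, hu⟩ : ∃ u, u = ρ s⁻¹ v := ⟨_, rfl⟩
  have huE : u ∈ Φ.E ρ n := by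
    have h2 := Φ.dg_mapsTo ρ (inv_mem (hs ▸ Φ.sEl_sq_mem hi)) hsv
    rw [← Module.End.mul_apply, ← map_mul, mul_inv_rev, inv_mul_cancel_right] at h2
    rwa [hu]
  have hr : ∀ a : F, ρ (Φ.em (Φ.e (i + 1)) (a • Φ.f i)) v = v := fun a => by
    have h3 : Φ.em (Φ.e (i + 1)) (a • Φ.f i) = s * Φ.rEl i (-a) * s⁻¹ := by
      rw [rEl, Φ.mul_em, mul_inv_cancel_right, s1, map_smul, s4, one_smul, neg_smul, neg_smul,
        one_smul, smul_neg, neg_neg]
    rw [h3, map_mul, map_mul, Module.End.mul_apply, Module.End.mul_apply, ← hu, Φ.rEl_fixed ρ hi huE, hu,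
      ← Module.End.mul_apply, ← map_mul, mul_inv_cancel, map_one, Module.End.one_apply]
  have h2 : ρ (Φ.em (Φ.e i) (c • Φ.f (i + 1))) v = v := Φ.rEl_fixed ρ hi hv c
  rw [sEl, map_mul, map_mul, Module.End.mul_apply, Module.End.mul_apply, h2, hr, h2]

theorem pairT_fixed {i j : ℕ} {u : V} (h : ∀ c : F, c ≠ 0 → ρ (Φ.sEl i j c) u = u) {x : F} (hx : x ≠ 0) :
    ρ (Φ.pairT i j x) u = u := by
  refine rep_injective ρ (Φ.sEl i j x) ?_
  rw [← Module.End.mul_apply, ← map_mul, pairT, mul_inv_cancel_left, h _ one_ne_zero, h _ hx]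

variable {Φ ρ}

/-- The roots beyond `i + 1` fix the components. -/
theorem Small.tail_fix (h : Φ.Small ρ) {i : ℕ} (hi : i + 1 < n) {α : F} (hα : α ≠ 0) {u : V}
    (hu : u ∈ Φ.M ρ i (α • Φ.e (i + 1))) {j l : ℕ} (hj : i + 1 < j) (hjn : j < n) (hl : i + 1 < l) (hln : l < n)
    (hjl : j ≠ l) (r : F) : ρ (Φ.sEl j l r) u = u := by
  have hi' : i < n := by omega
  have hw : α • Φ.e (i + 1) ∈ Φ.W i := Submodule.smul_mem _ _ (e_mem_W hi (Nat.lt_succ_self i))
  obtain ⟨z0, hz0, hz1⟩ := exists_scalar h.hq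
  have hroot : ∀ a b : ℕ, i + 1 < a → a < n → i + 1 < b → b < n → a ≠ b → ∀ r : F,
      ρ (Φ.em (Φ.e a) (r • Φ.f b)) u = u := by
    intro a b ha han hb hbn hab r
    obtain ⟨q1, -, q3⟩ := Φ.sqT_spec' han hi' (by omega) hz0
    refine Φ.phase ρ hi' (h := Φ.sqT (Φ.zz i) a z0) (l := 1) (m := (z0 * z0)⁻¹)
      (fun m hm => by rw [pl_comm]; exact W_e hw hm)
      (h.thin hi' hw (smul_ne_zero hα (Φ.hpair hi).ne_zero)).1
      (Φ.qe a han) (by rw [pl_smul_right, Φ.pnef a b han hbn hab, mul_zero]) (fun m hm => Φ.pee han (by omega))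
      (fun m hm => by rw [pl_smul_left, Φ.pnfe hbn (by omega) (by omega), mul_zero])
      (by rw [pl_smul_right, Φ.pee han hi, mul_zero])
      (by rw [pl_smul_left, pl_smul_right, Φ.pnfe hbn hi (by omega), mul_zero, mul_zero])
      (fun m hm => ((Φ.sqT_diag han hi' (by omega) hz0 hi') m hm.le).1) one_ne_zero
      (by rw [one_smul, q3 _ (Φ.pee han hi') (Φ.pnfe han hi' (by omega))])
      (fun y _ => by rw [map_smul, q3 _ (Φ.pee han hi) (Φ.pnfe han hi (by omega)), one_mul])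
      q1 (by rw [map_smul, q3 _ (Φ.pnef a b han hbn hab) (Φ.pff han hbn)])
      (fun h1 => hz1 (inv_eq_one.1 h1)) hu
  rw [sEl, map_mul, map_mul, Module.End.mul_apply, Module.End.mul_apply, hroot j l hj hjn hl hln hjl,
    hroot l j hl hln hj hjn hjl.symm, hroot j l hj hjn hl hln hjl]

/-- The same for the flipped frame. -/
theorem Small.tail_fix_flip (h : Φ.Small ρ) {i : ℕ} (hi : i + 2 < n) {α : F} (hα : α ≠ 0) {u : V}
    (hu : u ∈ Φ.M ρ i (α • Φ.e (i + 1))) {j l : ℕ} (hj : i + 1 < j) (hjn : j < n) (hl : i + 1 < l) (hln : l < n)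
    (hjl : j ≠ l) (r : F) : ρ ((Φ.flip).sEl j l r) u = u := by
  refine h.flip.tail_fix (i := i) (by omega) hα ?_ hj hjn hl hln hjl r
  rwa [Φ.flip_e (show i + 1 + 1 < n by omega), Φ.flip_M ρ (show i + 1 < n by omega)]

theorem Small.bottom_eigen (h : Φ.Small ρ) {k : ℕ} (hk : k + 2 = n) {α : F} (hα : α ≠ 0) {u : V}
    (huE : u ∈ Φ.E ρ k) (hu : ∀ b : F, ρ (Φ.em (Φ.e k) (b • Φ.f (k + 1))) u = psi F (α * b) • u) :
    u ∈ Φ.M ρ k (α • Φ.e (k + 1)) := by
  classical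
  have hn := h.hn
  have hk' : k < n := by omega
  have hk1 : k + 1 < n := by omega
  have := Fintype.ofFinite (Φ.W k)
  have hw : α • Φ.e (k + 1) ∈ Φ.W k := Submodule.smul_mem _ _ (e_mem_W hk1 (Nat.lt_succ_self k))
  rw [← Φ.sum_pM ρ hk' u, Finset.sum_eq_single (⟨_, hw⟩ : Φ.W k)]
  · exact Φ.pM_mem ρ hk' _ huE
  · intro v _ hne
    by_contra hcomp
    have h1 : polar ⇑Q v.1 (Φ.f (k + 1)) = α := psi_separates fun c => by
      by_contra hc
      refine hcomp (Φ.pM_eq_zero ρ hk' (x := ⟨c • Φ.f (k + 1), Submodule.smul_mem _ _ (f_mem_W hk1 (Nat.lt_succ_self k))⟩)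
        (hu c) ?_)
      rwa [pl_smul_right, mul_comm α c]
    have hp : Φ.projW (k + 1) v.1 = 0 := Φ.W_bot (by
      rw [show n - 1 = k + 1 by omega]; exact Φ.projW_mem hk1 v.1)
    have hv1 := W_coords v.2
    rw [hp, add_zero, pl_comm Q (Φ.f (k + 1)), h1] at hv1
    rcases ne_or_eq (Q v.1) 0 with hq | hq
    · have hmem := Φ.pM_mem ρ hk' v.1 huE
      rw [(h.thin hk' v.2 fun h0 => hq (by rw [h0, QuadraticMap.map_zero])).2 hq] at hmem
      exact hcomp ((Submodule.mem_bot ℂ).1 hmem)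
    · rw [Q_coords hk1 v.2, hp, QuadraticMap.map_zero, add_zero, pl_comm Q (Φ.f (k + 1)), h1, mul_eq_zero] at hq
      rw [hq.resolve_left hα, zero_smul, add_zero] at hv1
      exact hne (Subtype.ext hv1)
  · exact fun hh => absurd (Finset.mem_univ _) hh

/-- The other node at the fork fixes the components. -/
theorem Small.bottom_fix (h : Φ.Small ρ) {k : ℕ} (hk : k + 2 = n) {α : F} (hα : α ≠ 0) {u : V}
    (hu : u ∈ Φ.M ρ k (α • Φ.e (k + 1))) (r : F) : ρ ((Φ.flip).sEl k (k + 1) r) u = u := by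
  have hn := h.hn
  have hk' : k < n := by omega
  have hk1 : k + 1 < n := by omega
  have hw : α • Φ.e (k + 1) ∈ Φ.W k := Submodule.smul_mem _ _ (e_mem_W hk1 (Nat.lt_succ_self k))
  obtain ⟨huE, huW⟩ := (Φ.mem_M ρ).1 hu
  have hpl : ∀ a b : F, polar ⇑Q (a • Φ.e (k + 1)) (b • Φ.f (k + 1)) = a * b := fun a b => by
    rw [pl_smul_left, pl_smul_right, Φ.pef _ hk1, mul_one]
  -- elements commuting with the root group preserve the line
  have hscal : ∀ g : OG Q, (∀ j < k, act g (Φ.e j) = Φ.e j) →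
      (∀ b : F, g * Φ.em (Φ.e k) (b • Φ.f (k + 1)) = Φ.em (Φ.e k) (b • Φ.f (k + 1)) * g) →
      ∃ c : ℂ, ρ g u = c • u := by
    intro g hg hcomm
    rcases eq_or_ne u 0 with rfl | hu0
    · exact ⟨0, by rw [map_zero, smul_zero]⟩
    have hmem : ρ g u ∈ Φ.M ρ k (α • Φ.e (k + 1)) := h.bottom_eigen hk hα (Φ.mapsTo_E_fix ρ hg huE) fun b => by
      rw [← Module.End.mul_apply, ← map_mul, ← hcomm, map_mul, Module.End.mul_apply,
        huW _ (Submodule.smul_mem _ _ (f_mem_W hk1 (Nat.lt_succ_self k))), hpl, map_smul]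
    have hne : Φ.M ρ k (α • Φ.e (k + 1)) ≠ ⊥ := fun hb => hu0 ((Submodule.mem_bot ℂ).1 (hb ▸ hu))
    have h1 : finrank ℂ (Φ.M ρ k (α • Φ.e (k + 1))) = 1 := le_antisymm
      (h.thin hk' hw (smul_ne_zero hα (Φ.hpair hk1).ne_zero)).1 (Submodule.one_le_finrank_iff.2 hne)
    obtain ⟨c, hc⟩ := exists_smul_eq_of_finrank_eq_one h1 (x := ⟨u, hu⟩)
      (fun hz => hu0 (congrArg Subtype.val hz)) ⟨_, hmem⟩
    exact ⟨c, (congrArg Subtype.val hc).symm⟩
  have hfk : polar ⇑Q (Φ.f (k + 1)) (Φ.f k) = 0 := Φ.pff hk1 hk'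
  obtain ⟨y, hy⟩ : ∃ y : F → OG Q, ∀ a, y a = Φ.em (Φ.f (k + 1)) (a • Φ.f k) := ⟨_, fun a => rfl⟩
  have hyact : ∀ a x, act (y a) x = x + polar ⇑Q (Φ.f (k + 1)) x • (a • Φ.f k) -
      (a * polar ⇑Q (Φ.f k) x) • Φ.f (k + 1) := fun a x => by
    rw [hy, Φ.act_em (Φ.qf _ hk1) (by rw [pl_smul_right, hfk, mul_zero]), pl_smul_left, Q_smul, Φ.qf _ hk']
    simp
  have hyscal : ∀ a, ∃ c : ℂ, ρ (y a) u = c • u := fun a => hscal _ (fun j hj => by
      rw [hy]
      exact Φ.act_em_fix (Φ.qf _ hk1) (by rw [pl_smul_right, hfk, mul_zero]) (Φ.pnfe hk1 (by omega) (by omega))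
        (by rw [pl_smul_left, Φ.pnfe hk' (by omega) (by omega), mul_zero]))
    fun b => by
      have e1 : act (y a) (Φ.e k) = Φ.e k + (-a) • Φ.f (k + 1) := by
        rw [hyact, Φ.pnfe hk1 hk' (by omega), Φ.pfe hk']; module
      have e2 : act (y a) (b • Φ.f (k + 1)) = b • Φ.f (k + 1) := by
        rw [map_smul, hyact, Φ.pff hk1 hk1, Φ.pff hk' hk1]; simp
      have hbf : polar ⇑Q (Φ.e k) (b • Φ.f (k + 1)) = 0 := by
        rw [pl_smul_right, Φ.pnef _ _ hk' hk1 (by omega), mul_zero]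
      rw [Φ.mul_em, e1, e2, Φ.em_add_left (Φ.qe k hk') (by rw [Q_smul, Φ.qf _ hk1, mul_zero])
        (by rw [pl_smul_right, Φ.pnef _ _ hk' hk1 (by omega), mul_zero]) (by rw [Q_smul, Φ.qf _ hk1, mul_zero])
        hbf (by rw [pl_smul_left, pl_smul_right, Φ.pff hk1 hk1, mul_zero, mul_zero]), Φ.em_smul_left]
      have h3 := Φ.em_add_self (Φ.qf (k + 1) hk1) (pl_zero_right Q (Φ.f (k + 1))) (-a * b)
      rw [zero_add, Φ.em_zero] at h3
      rw [smul_smul, h3, mul_one]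
  obtain ⟨l, hl0, hl⟩ := exists_scalar h.hq
  obtain ⟨p1, p2, p3, p4, p5⟩ := (Φ.flip).pairT_spec hk' hk1 (by omega) hl0
  rw [Φ.flip_e (show k + 1 < n by omega)] at p1
  rw [Φ.flip_f (show k + 1 < n by omega)] at p3
  rw [Φ.flip_last_e (show k + 1 + 1 = n by omega)] at p2
  rw [Φ.flip_e (show k + 1 < n by omega), Φ.flip_f (show k + 1 < n by omega),
    Φ.flip_last_e (show k + 1 + 1 = n by omega), Φ.flip_last_f (show k + 1 + 1 = n by omega)] at p5
  have hh : ∃ d : ℂ, ρ ((Φ.flip).pairT k (k + 1) l) u = d • u := hscal _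
    (fun j hj => p5 _ (Φ.pee hk' (by omega)) (Φ.pnfe hk' (by omega) (by omega)) (Φ.pnfe hk1 (by omega) (by omega))
      (Φ.pee hk1 (by omega)))
    fun b => by
      rw [Φ.mul_em, p1, map_smul, p2, Φ.em_smul_left, smul_smul, smul_smul]
      congr 3
      field_simp
  have hyfix : ∀ a, ρ (y a) u = u := line_trick ρ y (fun a b => by
      rw [hy, hy, hy, add_smul, Φ.em_add (Φ.qf _ hk1) (by rw [pl_smul_right, hfk, mul_zero])
        (by rw [pl_smul_right, hfk, mul_zero])]) hyscal hh (m := (l * l)⁻¹) (fun h1 => hl (inv_eq_one.1 h1))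
    fun a => by
      rw [hy, hy, Φ.mul_em, p2, map_smul, p3, Φ.em_smul_left, smul_smul, smul_smul]
      congr 3
      field_simp
  have hefix : ∀ a : F, ρ (Φ.em (Φ.e k) (a • Φ.e (k + 1))) u = u := fun a => by
    rw [huW _ (Submodule.smul_mem _ _ (e_mem_W hk1 (Nat.lt_succ_self k))), pl_smul_left, pl_smul_right,
      Φ.pee hk1 hk1, mul_zero, mul_zero, AddChar.map_zero_eq_one, one_smul]
  rw [sEl, Φ.flip_em, Φ.flip_em, Φ.flip_e (show k + 1 < n by omega), Φ.flip_f (show k + 1 < n by omega),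
    Φ.flip_last_e (show k + 1 + 1 = n by omega), Φ.flip_last_f (show k + 1 + 1 = n by omega), ← hy,
    map_mul, map_mul, Module.End.mul_apply, Module.End.mul_apply, hefix, hyfix, hefix]

end Frame

end Cfsg.Agent.OrthPlusMinDegree
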