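import Cfsg.Agent.Lib.OrthPlusMinDegree.Rule
import Cfsg.Agent.EqLemmas
/-
Every torus weight of a small representation is trivial on the pair tori.
* flip_Dg, flip_wt, flip_swapVec;  Rc_equivariant;  rule_tail, rule_tail_flip, rule_bottom
* Small.pair_fix, Small.pair_fix_flip
-/
set_option autoImplicit false
set_option linter.unusedSectionVars false

namespace Cfsg.Agent.OrthPlusMinDegree

open Cfsg Module
open Cfsg.Agent.Orth
open Cfsg.Agent.SUMinDegree (rep_injective)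
open QuadraticMap (polar)

variable {ι : Type} [Fintype ι] [DecidableEq ι] {F : Type*} [Field F] [Fintype F]
variable {Q : QuadraticForm F (ι → F)} {n : ℕ} (Φ : Frame Q n)
variable {V : Type} [AddCommGroup V] [Module ℂ V] [FiniteDimensional ℂ V] (ρ : Representation ℂ (OG Q) V)

namespace Frame

theorem flip_Diag {g : OG Q} {k : ℕ} : (Φ.flip).Diag g k ↔ Φ.Diag g k := by
  refine forall_congr' fun j => forall_congr' fun _ => ?_
  rcases eq_or_ne (j + 1) n with h | h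
  · rw [Φ.flip_last_e h, Φ.flip_last_f h, and_comm]
  · rw [show (Φ.flip).e j = Φ.e j from if_neg h, show (Φ.flip).f j = Φ.f j from if_neg h]

theorem flip_Dg : (Φ.flip).Dg = Φ.Dg := Subgroup.ext fun _ => Φ.flip_Diag

theorem flip_E_top : (Φ.flip).E ρ n = Φ.E ρ n := by
  have hn := Φ.n_pos
  rw [← E_bottom (Φ := Φ.flip) (ρ := ρ) hn, ← E_bottom (Φ := Φ) (ρ := ρ) hn, Φ.flip_E ρ (by omega)]

theorem flip_wt {v : V} : (Φ.flip).IsWt ρ v ↔ Φ.IsWt ρ v := by
  constructor <;> intro h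
  · exact ⟨h.ne, Φ.flip_E_top ρ ▸ h.mem, fun g hg => h.scal g (by rw [Φ.flip_Dg]; exact hg)⟩
  · exact ⟨h.ne, (Φ.flip_E_top ρ).symm ▸ h.mem, fun g hg => h.scal g (by rw [← Φ.flip_Dg]; exact hg)⟩

theorem flip_sEl {i j : ℕ} (hi : i + 1 < n) (hj : j + 1 < n) (a : F) : (Φ.flip).sEl i j a = Φ.sEl i j a := by
  rw [sEl, sEl, Φ.flip_e hi, Φ.flip_e hj, Φ.flip_f hi, Φ.flip_f hj, Φ.flip_em, Φ.flip_em]

theorem flip_pairT {i j : ℕ} (hi : i + 1 < n) (hj : j + 1 < n) (a : F) : (Φ.flip).pairT i j a = Φ.pairT i j a := by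
  rw [pairT, pairT, Φ.flip_sEl hi hj, Φ.flip_sEl hi hj]

theorem flip_rEl {i : ℕ} (hi : i + 2 < n) (a : F) : (Φ.flip).rEl i a = Φ.rEl i a := by
  rw [rEl, rEl, Φ.flip_e (show i + 1 < n by omega), Φ.flip_f (show i + 1 + 1 < n by omega), Φ.flip_em]

theorem flip_swapVec {i : ℕ} (hi : i + 2 < n) : (Φ.flip).swapVec ρ i = Φ.swapVec ρ i := by
  simp only [swapVec, Φ.flip_rEl hi, Φ.flip_sEl (show i + 1 < n by omega) (show i + 1 + 1 < n by omega)]

variable {Φ}

theorem swap_pairT {i : ℕ} (hi : i + 1 < n) {v : V} {a b : ℕ} (ha : a < n) (hb : b < n) (hab : a ≠ b) {x : F}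
    (hx : x ≠ 0) {c : ℂ} (h : ρ (Φ.pairT (Equiv.swap i (i + 1) a) (Equiv.swap i (i + 1) b) x) v = c • v) :
    ρ (Φ.pairT a b x) (Φ.swapVec ρ i v) = c • Φ.swapVec ρ i v := by
  have hD := Φ.pairT_mem_Dg ha hb hab hx
  refine Φ.swapVec_scal ρ hi hD ?_
  rw [← h]
  congr 2
  refine Φ.dg_ext (Φ.conj_swap hi hD).1 (Φ.pairT_mem_Dg (swap_lt hi ha) (swap_lt hi hb)
    ((Equiv.swap i (i + 1)).injective.ne hab) hx) fun l hl => ?_
  rw [(Φ.conj_swap hi hD).2 l hl _ (Φ.pairT_e ha hb hab hx (swap_lt hi hl)),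
    Φ.pairT_e (swap_lt hi ha) (swap_lt hi hb) ((Equiv.swap i (i + 1)).injective.ne hab) hx hl]
  simp only [Equiv.swap_apply_eq_iff]

/-- A diagonal element with equal scalars at the pair commutes with the root group and the swap. -/
theorem Rc_equivariant {i : ℕ} (hi : i + 1 < n) {g : OG Q} (hg : g ∈ Φ.Dg) {c : F} (h1 : act g (Φ.e i) = c • Φ.e i)
    (h2 : act g (Φ.e (i + 1)) = c • Φ.e (i + 1)) (α : F) (v : V) :
    ρ g (Φ.Rc ρ i α v) = Φ.Rc ρ i α (ρ g v) := by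
  have hi' : i < n := by omega
  obtain ⟨d, hd, hde, hdf⟩ := Φ.Dg_e hg hi
  obtain rfl : d = c := smul_left_injective F (Φ.hpair hi).ne_zero (hde.symm.trans h2)
  have hcs : g * Φ.sEl i (i + 1) 1 = Φ.sEl i (i + 1) 1 * g := by
    have h3 : (Φ.sEl i (i + 1) 1)⁻¹ * g * Φ.sEl i (i + 1) 1 = g := by
      refine Φ.dg_ext (Φ.conj_swap hi hg).1 hg fun m hm => ?_
      rcases eq_or_ne m i with rfl | hmi
      · rw [(Φ.conj_swap hi hg).2 m hm d (by rw [Equiv.swap_apply_left]; exact h2), h1]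
      rcases eq_or_ne m (i + 1) with rfl | hmj
      · rw [(Φ.conj_swap hi hg).2 (i + 1) hm d (by rw [Equiv.swap_apply_right]; exact h1), h2]
      · obtain ⟨c', -, hc', -⟩ := Φ.Dg_e hg hm
        rw [(Φ.conj_swap hi hg).2 m hm c' (by rw [Equiv.swap_apply_of_ne_of_ne hmi hmj]; exact hc'), hc']
    calc g * Φ.sEl i (i + 1) 1 = Φ.sEl i (i + 1) 1 * ((Φ.sEl i (i + 1) 1)⁻¹ * g * Φ.sEl i (i + 1) 1) := by group
      _ = _ := by rw [h3]
  have hcr : ∀ t : F, g * Φ.rEl i t = Φ.rEl i t * g := fun t => by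
    rw [rEl, Φ.mul_em, h1, map_smul, hdf, Φ.em_smul_left, smul_smul, smul_smul]
    congr 3
    field_simp
  rw [Rc_apply, Rc_apply, map_sum]
  refine Finset.sum_congr rfl fun t _ => ?_
  rw [map_smul, ← Module.End.mul_apply, ← map_mul, hcr, map_mul, Module.End.mul_apply, ← Module.End.mul_apply (ρ g),
    ← map_mul, hcs, map_mul, Module.End.mul_apply]

variable {ρ}

theorem Small.exists_Rc (h : Φ.Small ρ) {i : ℕ} (hi : i + 1 < n) {v : V} (hv : v ∈ Φ.E ρ n) {x : F} (hx : x ≠ 0)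
    (hne : ρ (Φ.pairT i (i + 1) x) v ≠ v) : ∃ α : F, α ≠ 0 ∧ Φ.Rc ρ i α v ≠ 0 := by
  by_contra! h0
  exact hne (Φ.pairT_fixed ρ (fun c hc => Φ.sEl_fixed_of_Rc ρ hi hv h0 hc) hx)

theorem scal_of_Rc {i : ℕ} (hi : i + 1 < n) {v : V} (hv : Φ.IsWt ρ v) {α : F} (hne : Φ.Rc ρ i α v ≠ 0) {g : OG Q}
    (hg : g ∈ Φ.Dg) {c : F} (h1 : act g (Φ.e i) = c • Φ.e i) (h2 : act g (Φ.e (i + 1)) = c • Φ.e (i + 1))
    (hfix : ρ g (Φ.Rc ρ i α v) = Φ.Rc ρ i α v) : ρ g v = v := by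
  obtain ⟨t, ht⟩ := hv.scal g hg
  rw [Rc_equivariant ρ hi hg h1 h2, ht, map_smul] at hfix
  rw [ht, smul_left_injective ℂ hne (hfix.trans (one_smul ℂ _).symm), one_smul]

theorem Small.rule_tail (h : Φ.Small ρ) {i : ℕ} (hi : i + 1 < n) {v : V} (hv : Φ.IsWt ρ v) {x : F} (hx : x ≠ 0)
    (hne : ρ (Φ.pairT i (i + 1) x) v ≠ v) {j l : ℕ} (hj : i + 1 < j) (hjn : j < n) (hl : i + 1 < l) (hln : l < n)
    (hjl : j ≠ l) {y : F} (hy : y ≠ 0) : ρ (Φ.pairT j l y) v = v := by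
  obtain ⟨α, hα, hR⟩ := h.exists_Rc hi hv.mem hx hne
  refine scal_of_Rc hi hv hR (Φ.pairT_mem_Dg hjn hln hjl hy) (c := 1) ?_ ?_
    (Φ.pairT_fixed ρ (fun r _ => h.tail_fix hi hα (Φ.Rc_mem_M ρ hi hv.mem α) hj hjn hl hln hjl r) hy)
  · rw [Φ.pairT_e hjn hln hjl hy (by omega), if_neg (by omega), if_neg (by omega)]
  · rw [Φ.pairT_e hjn hln hjl hy hi, if_neg (by omega), if_neg (by omega)]

theorem Small.rule_tail_flip (h : Φ.Small ρ) {i : ℕ} (hi : i + 2 < n) {v : V} (hv : Φ.IsWt ρ v) {x : F}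
    (hx : x ≠ 0) (hne : ρ (Φ.pairT i (i + 1) x) v ≠ v) {j l : ℕ} (hj : i + 1 < j) (hjn : j < n) (hl : i + 1 < l)
    (hln : l < n) (hjl : j ≠ l) {y : F} (hy : y ≠ 0) : ρ ((Φ.flip).pairT j l y) v = v := by
  refine h.flip.rule_tail (i := i) (by omega) ((Φ.flip_wt ρ).2 hv) hx ?_ hj hjn hl hln hjl hy
  rwa [Φ.flip_pairT (show i + 1 < n by omega) (show i + 1 + 1 < n by omega)]

theorem Small.rule_bottom (h : Φ.Small ρ) {k : ℕ} (hk : k + 2 = n) {v : V} (hv : Φ.IsWt ρ v) {x : F} (hx : x ≠ 0)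
    (hne : ρ (Φ.pairT k (k + 1) x) v ≠ v) {y : F} (hy : y ≠ 0) : ρ ((Φ.flip).pairT k (k + 1) y) v = v := by
  have hk' : k < n := by omega
  have hk1 : k + 1 < n := by omega
  obtain ⟨α, hα, hR⟩ := h.exists_Rc hk1 hv.mem hx hne
  have hD := (Φ.flip).pairT_mem_Dg hk' hk1 (by omega) hy
  rw [Φ.flip_Dg] at hD
  obtain ⟨p1, -, -, p4, -⟩ := (Φ.flip).pairT_spec hk' hk1 (by omega) hy
  rw [Φ.flip_e (show k + 1 < n by omega)] at p1
  rw [Φ.flip_last_f (show k + 1 + 1 = n by omega)] at p4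
  exact scal_of_Rc hk1 hv hR hD p1 p4
    ((Φ.flip).pairT_fixed ρ (fun r _ => h.bottom_fix hk hα (Φ.Rc_mem_M ρ hk1 hv.mem α) r) hy)

theorem scal_trans {v : V} {x : F} (hx : x ≠ 0) {a b c : ℕ} (ha : a < n) (hb : b < n) (hc : c < n)
    (hab : a ≠ b) (hbc : b ≠ c) (hac : a ≠ c) {s t : ℂ} (h1 : ρ (Φ.pairT a b x) v = s • v)
    (h2 : ρ (Φ.pairT b c x) v = t • v) : ρ (Φ.pairT a c x) v = (t * s) • v := by
  rw [← Φ.pairT_trans ha hb hc hab hbc hac hx, map_mul, Module.End.mul_apply, h2, map_smul, h1, smul_smul]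

/-- Non-trivial at the bottom node means trivial next to it. -/
theorem Small.fork_centre (h : Φ.Small ρ) {p : ℕ} (hk : p + 4 = n) {v : V} (hv : Φ.IsWt ρ v) {x : F} (hx : x ≠ 0)
    (hne : ρ (Φ.pairT (p + 2) (p + 3) x) v ≠ v) : ρ (Φ.pairT (p + 1) (p + 2) x) v = v := by
  obtain ⟨C, hC⟩ := hv.scal _ (Φ.pairT_mem_Dg (i := p + 1) (j := p + 2) (by omega) (by omega) (by omega) hx)
  by_contra hCne
  have hD : ρ (Φ.pairT p (p + 1) x) v = (1 : ℂ) • v := by
    rw [one_smul]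
    by_contra hd
    exact hne (h.rule_tail (i := p) (by omega) hv hx hd (by omega) (by omega) (by omega) (by omega) (by omega) hx)
  have hB : ρ ((Φ.flip).pairT (p + 2) (p + 3) x) v = (1 : ℂ) • v := by
    rw [one_smul]
    exact h.rule_bottom (k := p + 2) (by omega) hv hx hne hx
  obtain ⟨w, hw⟩ : ∃ w, w = Φ.swapVec ρ (p + 1) v := ⟨_, rfl⟩
  have hwt : Φ.IsWt ρ w := hw ▸ Φ.swap_wt ρ (by omega) hv
  have hC1 : C ≠ 1 := fun e => hCne (by rw [hC, e, one_smul])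
  have hd' : ρ (Φ.pairT p (p + 1) x) w = C • w := by
    rw [hw]
    refine swap_pairT ρ (by omega) (by omega) (by omega) (by omega) hx ?_
    rw [Equiv.swap_apply_of_ne_of_ne (by omega) (by omega), Equiv.swap_apply_left,
      scal_trans hx (show p < n by omega) (show p + 1 < n by omega) (show p + 1 + 1 < n by omega) (by omega) (by omega)
        (by omega) hD hC, mul_one]
  have hb' : ρ ((Φ.flip).pairT (p + 2) (p + 3) x) w = C • w := by
    rw [hw, ← Φ.flip_swapVec ρ (show p + 1 + 2 < n by omega)]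
    refine swap_pairT ρ (by omega) (by omega) (by omega) (by omega) hx ?_
    rw [Equiv.swap_apply_right, Equiv.swap_apply_of_ne_of_ne (by omega) (by omega),
      scal_trans (Φ := Φ.flip) hx (show p + 1 < n by omega) (show p + 2 < n by omega) (show p + 3 < n by omega)
        (by omega) (by omega) (by omega) (by rw [Φ.flip_pairT (by omega) (by omega)]; exact hC) hB, one_mul]
  have hne' : ρ (Φ.pairT p (p + 1) x) w ≠ w := fun e => hC1 (by
    rw [hd'] at e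
    exact smul_left_injective ℂ hwt.ne (e.trans (one_smul ℂ w).symm))
  have h1 := h.rule_tail_flip (i := p) (by omega) hwt hx hne' (j := p + 2) (l := p + 3) (by omega) (by omega)
    (by omega) (by omega) (by omega) hx
  rw [hb'] at h1
  exact hC1 (smul_left_injective ℂ hwt.ne (h1.trans (one_smul ℂ w).symm))

theorem Small.bottom_trivial (h : Φ.Small ρ) {k : ℕ} (hk : k + 2 = n) {v : V} (hv : Φ.IsWt ρ v) {x : F}
    (hx : x ≠ 0) : ρ (Φ.pairT k (k + 1) x) v = v := by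
  have hn := h.hn
  obtain ⟨p, rfl⟩ : ∃ p, k = p + 2 := ⟨k - 2, by omega⟩
  obtain ⟨A, hA⟩ := hv.scal _ (Φ.pairT_mem_Dg (i := p + 2) (j := p + 3) (by omega) (by omega) (by omega) hx)
  by_contra hne
  have hA1 : A ≠ 1 := fun e => hne (by rw [hA, e, one_smul])
  have hC : ρ (Φ.pairT (p + 1) (p + 2) x) v = (1 : ℂ) • v := by
    rw [one_smul]; exact h.fork_centre (by omega) hv hx hne
  obtain ⟨w, hw⟩ : ∃ w, w = Φ.swapVec ρ (p + 2) v := ⟨_, rfl⟩
  have hwt : Φ.IsWt ρ w := hw ▸ Φ.swap_wt ρ (by omega) hv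
  have hfix : ∀ {g : OG Q} {c : ℂ}, ρ g w = c • w → ρ g w = w → c = 1 := fun h1 h2 =>
    smul_left_injective ℂ hwt.ne ((h1.symm.trans h2).trans (one_smul ℂ w).symm)
  have hc' : ρ (Φ.pairT (p + 1) (p + 2) x) w = A • w := by
    rw [hw]
    refine swap_pairT ρ (by omega) (by omega) (by omega) (by omega) hx ?_
    rw [Equiv.swap_apply_of_ne_of_ne (by omega) (by omega), Equiv.swap_apply_left,
      scal_trans hx (show p + 1 < n by omega) (show p + 2 < n by omega) (show p + 2 + 1 < n by omega) (by omega)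
        (by omega) (by omega) hC hA, mul_one]
  have ha' : ρ (Φ.pairT (p + 2) (p + 3) x⁻¹) w = A • w := by
    rw [hw]
    refine swap_pairT ρ (by omega) (by omega) (by omega) (by omega) (inv_ne_zero hx) ?_
    rw [Equiv.swap_apply_left, Equiv.swap_apply_right,
      Φ.pairT_symm (show p + 2 < n by omega) (show p + 2 + 1 < n by omega) (by omega) (inv_ne_zero hx), inv_inv, hA]
  rcases Classical.em (ρ (Φ.pairT (p + 2) (p + 3) x) w = w) with h1 | h1
  · refine hA1 (hfix ha' ?_)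
    refine rep_injective ρ (Φ.pairT (p + 2) (p + 3) x) ?_
    rw [h1, ← Module.End.mul_apply, ← map_mul, ← Φ.pairT_mul (by omega) (by omega) (by omega) hx (inv_ne_zero hx),
      mul_inv_cancel₀ hx]
    have h2 : Φ.pairT (p + 2) (p + 3) (1 : F) = 1 := by
      have h3 := Φ.pairT_mul (i := p + 2) (j := p + 3) (by omega) (by omega) (by omega) (one_ne_zero (α := F)) one_ne_zero
      rw [one_mul] at h3
      exact mul_eq_left.1 h3.symm
    rw [h2, map_one, Module.End.one_apply]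
  · exact hA1 (hfix hc' (h.fork_centre (by omega) hwt hx h1))

theorem Small.chain_trivial (h : Φ.Small ρ) {i : ℕ} (hi : i + 1 < n) {v : V} (hv : Φ.IsWt ρ v) {x : F}
    (hx : x ≠ 0) : ρ (Φ.pairT i (i + 1) x) v = v := by
  obtain ⟨d, hd⟩ : ∃ d, i + d + 2 = n := ⟨n - 2 - i, by omega⟩
  induction d generalizing i v with
  | zero => exact h.bottom_trivial (by omega) hv hx
  | succ d ih =>
    have h1 := ih (i := i + 1) (by omega) (Φ.swap_wt ρ (i := i) hi hv) (by omega)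
    obtain ⟨c, hc⟩ := hv.scal _ (Φ.pairT_mem_Dg (show i < n by omega) hi (by omega) hx)
    have h2 : ρ (Φ.pairT (i + 1) (i + 1 + 1) x) (Φ.swapVec ρ i v) = c • Φ.swapVec ρ i v := by
      refine swap_pairT ρ hi (by omega) (by omega) (by omega) hx ?_
      rw [Equiv.swap_apply_right, Equiv.swap_apply_of_ne_of_ne (by omega) (by omega),
        scal_trans hx (show i < n by omega) hi (show i + 1 + 1 < n by omega) (by omega) (by omega) (by omega) hc
          ((ih (i := i + 1) (by omega) hv (by omega)).trans (one_smul ℂ v).symm), one_mul]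
    rw [h1] at h2
    rw [hc, smul_left_injective ℂ (Φ.swapVec_ne ρ hi hv) (h2.symm.trans (one_smul ℂ _).symm), one_smul]

theorem Small.pair_fix (h : Φ.Small ρ) {v : V} (hv : Φ.IsWt ρ v) {i j : ℕ} (hi : i < n) (hj : j < n)
    (hij : i ≠ j) {x : F} (hx : x ≠ 0) : ρ (Φ.pairT i j x) v = v := by
  have hup : ∀ d a, a + (d + 1) < n → ∀ y : F, y ≠ 0 → ρ (Φ.pairT a (a + (d + 1)) y) v = v := by
    intro d
    induction d with
    | zero => exact fun a ha y hy => h.chain_trivial ha hv hy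
    | succ d ihd =>
      intro a ha y hy
      rw [← Φ.pairT_trans (show a < n by omega) (show a + 1 < n by omega) ha (by omega) (by omega) (by omega) hy,
        map_mul, Module.End.mul_apply,
        show ρ (Φ.pairT (a + 1) (a + (d + 1 + 1)) y) v = v by
          rw [show a + (d + 1 + 1) = a + 1 + (d + 1) by omega]; exact ihd (a + 1) (by omega) y hy,
        h.chain_trivial (by omega) hv hy]
  rcases lt_or_gt_of_ne hij with hlt | hgt
  · obtain ⟨d, rfl⟩ : ∃ d, j = i + (d + 1) := ⟨j - i - 1, by omega⟩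
    exact hup d i hj x hx
  · obtain ⟨d, rfl⟩ : ∃ d, i = j + (d + 1) := ⟨i - j - 1, by omega⟩
    rw [Φ.pairT_symm hj hi (by omega) hx]
    exact hup d j hi _ (inv_ne_zero hx)

theorem Small.pair_fix_flip (h : Φ.Small ρ) {v : V} (hv : Φ.IsWt ρ v) {i j : ℕ} (hi : i < n) (hj : j < n)
    (hij : i ≠ j) {x : F} (hx : x ≠ 0) : ρ ((Φ.flip).pairT i j x) v = v :=
  h.flip.pair_fix ((Φ.flip_wt ρ).2 hv) hi hj hij hx

end Frame

end Cfsg.Agent.OrthPlusMinDegree
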